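import Cfsg.Agent.H923.Ten.A7Grp
import Cfsg.Agent.N2.Defs_m3
import Cfsg.Agent.N2.Tool
import Cfsg.Prelude.Def_KGroupFacts
import Cfsg.Agent.H853.Fx.PslE
import Cfsg.Agent.ClassicalGeometry.PSLTorus
import Cfsg.Agent.H281.Reg.Small
import Cfsg.Agent.S0251
import Cfsg.Agent.S0803
import Cfsg.Agent.Lib.FastPerm
import Cfsg.Agent.H447.CTabLam_m3
import Cfsg.Agent.Solvable.FpfPGroup
import Cfsg.Agent.S0016
import Cfsg.Agent.S0144
import Cfsg.Agent.TAB.F22.FxB_m3
import Cfsg.Agent.S0112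
import Cfsg.Agent.S0113
import Cfsg.Agent.S0665
import Cfsg.Agent.S3073
import Cfsg.Agent.S3385
import Cfsg.Agent.S3683
import Cfsg.Agent.H230.RelTwo
import Cfsg.Agent.FastGrp
import Cfsg.Agent.Prune
set_option linter.all false

section
prune_inst 0x7f00000000000000000000000000000000000000000000000000000000000000000000000000000000000000000000000000000000000000000000000000000000000000000000000000000000000000003fffffffffffffffffffffffffffbeffbdffffffff

-- part: N2/Cl/RAlt/Gen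
section
set_option linter.all false
open scoped Cfsg.Agent.FastGrp

/-!
# N2, class S, alternating socle: a checker for generating pairs of `A_n` (helper62)

A permutation of `Fin n` is coded by a number, digit `i` in base 32 is the image of `i`.
-/

set_option autoImplicit false
set_option maxHeartbeats 400000

namespace Cfsg.Agent.N2C.RAlt

open Equiv

/-- digit `i` in base 32 -/
def dg (c i : ℕ) : ℕ := c / 32 ^ i % 32

/-- `f` applied `k` times -/
def it (f : ℕ → ℕ) (k i : ℕ) : ℕ := Nat.rec i (fun _ a => f a) k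

theorem it_succ (f : ℕ → ℕ) (k i : ℕ) : it f (k + 1) i = f (it f k i) := rfl

/-- the permutation `σ` is given by `f` -/
def Rp {n : ℕ} (σ : Perm (Fin n)) (f : ℕ → ℕ) : Prop := ∀ i : Fin n, (σ i : ℕ) = f i

variable {n : ℕ} {σ τ : Perm (Fin n)} {f g : ℕ → ℕ}

theorem Rp.mul (h : Rp σ f) (k : Rp τ g) : Rp (σ * τ) fun i => f (g i) := fun i => by
  rw [Perm.mul_apply, h, k]

theorem Rp.pow (h : Rp σ f) (k : ℕ) : Rp (σ ^ k) (it f k) := by
  induction k with
  | zero => exact fun i => rfl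
  | succ k ih => exact fun i => by rw [pow_succ', Perm.mul_apply, h, ih, it_succ]

theorem Rp.eq_one (h : Rp σ f) (h1 : ((List.range n).all fun i => f i == i) = true) : σ = 1 := by
  ext i
  rw [h]
  simpa using List.all_eq_true.1 h1 i (List.mem_range.2 i.2)

theorem Rp.eq (h : Rp σ f) (k : Rp τ g) (h1 : ((List.range n).all fun i => f i == g i) = true) : σ = τ := by
  ext i
  rw [h, k]
  simpa using List.all_eq_true.1 h1 i (List.mem_range.2 i.2)

/-- the number of moved points -/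
def mv (n : ℕ) (f : ℕ → ℕ) : ℕ := (List.range n).countP fun i => f i != i

theorem Rp.card_support (h : Rp σ f) : σ.support.card = mv n f := by
  unfold mv
  rw [List.countP_eq_length_filter, ← List.toFinset_card_of_nodup (List.nodup_range.filter _)]
  refine Finset.card_bij (fun i _ => (i : ℕ)) (fun i hi => ?_) (fun i _ j _ e => Fin.ext e) fun j hj => ?_
  · rw [List.mem_toFinset, List.mem_filter, List.mem_range, ← h]
    exact ⟨i.2, by simpa [Fin.ext_iff] using hi⟩
  · rw [List.mem_toFinset, List.mem_filter, List.mem_range] at hj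
    refine ⟨⟨j, hj.1⟩, ?_, rfl⟩
    rw [Perm.mem_support, Ne, Fin.ext_iff, h]
    simpa using hj.2

theorem exists_rp {b : ℕ} (h1 : ((List.range n).all fun i => decide (f i < n)) = true)
    (h2 : ((List.range n).all fun i => it f (b + 1) i == i) = true) : ∃ σ : Perm (Fin n), Rp σ f ∧ σ ^ (b + 1) = 1 := by
  have h3 : ∀ i : Fin n, f i < n := fun i => by simpa using List.all_eq_true.1 h1 i (List.mem_range.2 i.2)
  have h4 : ∀ i : Fin n, it f (b + 1) i = i := fun i => by simpa using List.all_eq_true.1 h2 i (List.mem_range.2 i.2)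
  let F : Fin n → Fin n := fun i => ⟨f i, h3 i⟩
  have h5 : ∀ k (i : Fin n), ((F^[k] i : Fin n) : ℕ) = it f k i := by
    intro k i
    induction k with
    | zero => rfl
    | succ k ih => rw [Function.iterate_succ_apply', it_succ, ← ih]
  have h6 : Function.Injective F := Function.LeftInverse.injective (g := F^[b]) fun i => Fin.ext (by
    rw [← Function.iterate_succ_apply, h5, h4])
  have h7 : Rp (Equiv.ofBijective F (Finite.injective_iff_bijective.1 h6)) f := fun i => rfl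
  exact ⟨_, h7, (h7.pow (b + 1)).eq_one h2⟩

/-- a word: binary digits below the leading one, `0` for `f`, `1` for `g` -/
def wd (f g : ℕ → ℕ) (w : List Bool) (i : ℕ) : ℕ := w.foldr (fun c a => bif c then g a else f a) i

theorem exists_wd (h : Rp σ f) (k : Rp τ g) (w : List Bool) : ∃ c ∈ Subgroup.closure {σ, τ}, Rp c (wd f g w) := by
  induction w with
  | nil => exact ⟨1, one_mem _, fun i => rfl⟩
  | cons a w ih =>
    obtain ⟨c, hc, e⟩ := ih
    cases a
    · exact ⟨σ * c, mul_mem (Subgroup.subset_closure (by simp)) hc, h.mul e⟩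
    · exact ⟨τ * c, mul_mem (Subgroup.subset_closure (by simp)) hc, k.mul e⟩

/-- the action on coded pairs -/
def pr (n : ℕ) (f : ℕ → ℕ) (a : ℕ) : ℕ := f (a / n) * n + f (a % n)

/-- evaluate `x` first -/
def frc {β : Type} (x : ℕ) (k : ℕ → β) : β := Nat.rec (k 0) (fun m _ => k (Nat.succ m)) x

theorem frc_eq {β : Type} (x : ℕ) (k : ℕ → β) : frc x k = k x := by cases x <;> rfl

/-- one pass through the first `l` pairs -/
def pas (n : ℕ) (f g : ℕ → ℕ) (l : ℕ) : ℕ → ℕ :=
  Nat.rec (fun s => s) (fun a ih s => frc (bif s.testBit a then s ||| 2 ^ pr n f a ||| 2 ^ pr n g a else s) ih) l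

/-- one pass through all pairs -/
def pass (n : ℕ) (f g : ℕ → ℕ) (s : ℕ) : ℕ := pas n f g (n * n) s

theorem pass_sound {P : ℕ → Prop} (hf : ∀ a, P a → P (pr n f a)) (hg : ∀ a, P a → P (pr n g a)) {s : ℕ}
    (hs : ∀ a, s.testBit a = true → P a) : ∀ a, (pass n f g s).testBit a = true → P a := by
  unfold pass
  generalize n * n = l
  induction l generalizing s with
  | zero => exact hs
  | succ b ih =>
    rw [show pas n f g (b + 1) s = frc (bif s.testBit b then s ||| 2 ^ pr n f b ||| 2 ^ pr n g b else s) (pas n f g b)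
      from rfl, frc_eq]
    refine ih fun a ha => ?_
    cases hb : s.testBit b
    · rw [hb, cond_false] at ha
      exact hs a ha
    · rw [hb, cond_true, Nat.testBit_or, Nat.testBit_or, Bool.or_eq_true, Bool.or_eq_true, Nat.testBit_two_pow,
        Nat.testBit_two_pow, decide_eq_true_iff, decide_eq_true_iff] at ha
      rcases ha with (ha | ha) | ha
      · exact hs a ha
      · exact ha ▸ hf b (hs b hb)
      · exact ha ▸ hg b (hs b hb)

/-- the group is 2-transitive -/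
def two (n : ℕ) (f g : ℕ → ℕ) (m : ℕ) : Bool :=
  frc (it (pass n f g) m 2) fun s => (List.range n).all fun a => (List.range n).all fun b => a == b || Nat.testBit s (a * n + b)

theorem two_sound (hn : 2 ≤ n) (h : Rp σ f) (k : Rp τ g) {m : ℕ} (h2 : two n f g m = true) (a b : Fin n) (hab : a ≠ b) :
    ∃ c ∈ Subgroup.closure {σ, τ}, c ⟨0, by omega⟩ = a ∧ c ⟨1, by omega⟩ = b := by
  let P : ℕ → Prop := fun x => ∃ c ∈ Subgroup.closure {σ, τ},
    x = (c ⟨0, by omega⟩ : ℕ) * n + (c ⟨1, by omega⟩ : ℕ)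
  have dv : ∀ u v : Fin n, ((u : ℕ) * n + v) / n = u ∧ ((u : ℕ) * n + v) % n = v := fun u v =>
    ⟨by rw [mul_comm, Nat.mul_add_div (by omega), Nat.div_eq_of_lt v.2, add_zero],
      by rw [mul_comm, Nat.mul_add_mod, Nat.mod_eq_of_lt v.2]⟩
  have st : ∀ {ρ : Perm (Fin n)} {e : ℕ → ℕ}, Rp ρ e → ρ ∈ Subgroup.closure {σ, τ} → ∀ x, P x → P (pr n e x) := by
    rintro ρ e h1 h3 _ ⟨c, hc, rfl⟩
    refine ⟨ρ * c, mul_mem h3 hc, ?_⟩
    rw [pr, (dv _ _).1, (dv _ _).2, Perm.mul_apply, Perm.mul_apply, h1, h1]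
  have h3 : ∀ j x, (it (pass n f g) j 2).testBit x = true → P x := by
    intro j
    induction j with
    | zero =>
      intro x hx
      rw [show it (pass n f g) 0 2 = 2 ^ 1 from rfl, Nat.testBit_two_pow, decide_eq_true_iff] at hx
      exact ⟨1, one_mem _, by simp [← hx]⟩
    | succ j ih =>
      exact pass_sound (st h (Subgroup.subset_closure (by simp))) (st k (Subgroup.subset_closure (by simp))) ih
  rw [two, frc_eq] at h2
  have h4 := List.all_eq_true.1 (List.all_eq_true.1 h2 a (List.mem_range.2 a.2)) b (List.mem_range.2 b.2)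
  rw [Bool.or_eq_true, beq_iff_eq, or_iff_right fun e => hab (Fin.ext e)] at h4
  obtain ⟨c, hc, e⟩ := h3 m _ h4
  refine ⟨c, hc, Fin.ext ?_, Fin.ext ?_⟩
  · rw [← (dv a b).1, e, (dv _ _).1]
  · rw [← (dv a b).2, e, (dv _ _).2]

theorem sign_of_odd {α : Type} [Fintype α] [DecidableEq α] {σ : Perm α} {r : ℕ} (hr : Odd r) (h : σ ^ r = 1) :
    Perm.sign σ = 1 := by
  have h1 : (Perm.sign σ) ^ r = 1 := by rw [← map_pow, h, map_one]
  rcases Int.units_eq_one_or (Perm.sign σ) with h2 | h2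
  · exact h2
  · rw [h2, hr.neg_one_pow] at h1
    exact absurd h1 (by decide)

theorem sign_of_sq {α : Type} [Fintype α] [DecidableEq α] {σ : Perm α} (h : σ ^ 2 = 1) (h4 : σ.support.card % 4 = 0) :
    Perm.sign σ = 1 := by
  have : Fact (Nat.Prime 2) := ⟨Nat.prime_two⟩
  have h1 := Perm.cycleType_of_pow_prime_eq_one h
  have h2 := σ.sum_cycleType
  rw [h1, Multiset.sum_replicate, smul_eq_mul] at h2
  rw [Perm.sign_of_cycleType, σ.sum_cycleType]
  exact Even.neg_one_pow ⟨_, show _ = 3 * (σ.support.card / 4) + 3 * (σ.support.card / 4) by omega⟩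

/-- the check: `x ^ (a + 1) = y ^ (b + 1) = 1`, `x y` has odd order `r`, `x` is even, the group is 2-transitive and the
`k`-th power of the word `w` is a 3-cycle -/
def ok (n x y a b r : ℕ) (w : List Bool) (k m : ℕ) : Bool :=
  ((List.range n).all fun i => decide (dg x i < n)) && ((List.range n).all fun i => it (dg x) (a + 1) i == i) &&
  ((List.range n).all fun i => decide (dg y i < n)) && ((List.range n).all fun i => it (dg y) (b + 1) i == i) &&
  ((List.range n).all fun i => it (fun j => dg x (dg y j)) r i == i) && (r % 2 == 1) &&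
  (a % 2 == 0 || (a == 1 && mv n (dg x) % 4 == 0)) &&
  ((List.range r).all fun j => j == 0 || mv n (it (fun j => dg x (dg y j)) j) != 0) &&
  (mv n (it (wd (dg x) (dg y) w) k) == 3) && two n (dg x) (dg y) m

/-- **generating triples** -/
theorem tri_of {x y a b r k m : ℕ} {w : List Bool} (hn : 2 ≤ n) (h : ok n x y a b r w k m = true) :
    N2.Tg.Tri (alternatingGroup (Fin n)) (a + 1) (b + 1) r := by
  simp only [ok, Bool.and_eq_true, Bool.or_eq_true, beq_iff_eq] at h
  obtain ⟨⟨⟨⟨⟨⟨⟨⟨⟨h1, h2⟩, h3⟩, h4⟩, h5⟩, h6⟩, h7⟩, h8⟩, h9⟩, h10⟩ := h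
  obtain ⟨σ, hσ, e1⟩ := exists_rp h1 h2
  obtain ⟨τ, hτ, e2⟩ := exists_rp h3 h4
  have e3 : (σ * τ) ^ r = 1 := ((hσ.mul hτ).pow r).eq_one h5
  have s1 : Perm.sign σ = 1 := by
    rcases h7 with h7 | ⟨rfl, h7⟩
    · exact sign_of_odd (Nat.odd_iff.2 (by omega)) e1
    · exact sign_of_sq e1 (by rw [hσ.card_support]; exact h7)
  have s2 : Perm.sign τ = 1 := by
    have := sign_of_odd (Nat.odd_iff.2 h6) e3
    rwa [map_mul, s1, one_mul] at this
  obtain ⟨c, hc, e4⟩ := exists_wd hσ hτ w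
  have e5 : (c ^ k).IsThreeCycle := card_support_eq_three_iff.1 (by rw [(e4.pow k).card_support]; exact h9)
  refine ⟨⟨σ, s1⟩, ⟨τ, s2⟩, Subtype.ext e1, Subtype.ext e2, ?_, H909.AltGen.gen' _ ?_⟩
  · rw [← Subgroup.orderOf_coe]
    refine (orderOf_eq_iff (by omega)).2 ⟨e3, fun j hj h0 e => ?_⟩
    have e6 := List.all_eq_true.1 h8 j (List.mem_range.2 hj)
    rw [← ((hσ.mul hτ).pow j).card_support, show (σ * τ) ^ j = 1 from e, Perm.support_one, Finset.card_empty] at e6
    simp only [bne_self_eq_false, Bool.or_false, beq_iff_eq] at e6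
    omega
  rw [Set.image_pair]
  refine H909.AltGen.gen _ ?_ (i₀ := ⟨0, by omega⟩) (j₀ := ⟨1, by omega⟩) (by simp) (two_sound hn hσ hτ h10)
    (pow_mem hc k) e5
  rintro _ (rfl | rfl)
  · exact s1
  · exact s2

end Cfsg.Agent.N2C.RAlt

private theorem dce_2580e499bc36 : _root_.True := by
  try have : _root_.True := by simp only [_root_.Cfsg.Agent.N2C.RAlt.ok.eq_1]
  try have : _root_.True := by simp only [_root_.Cfsg.Agent.N2C.RAlt.two.eq_1]
  try have : _root_.True := by simp only [_root_.Cfsg.Agent.N2C.RAlt.pr.eq_1]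
  exact _root_.True.intro
end

-- part: N2/Cl/RAlt/Tri
section
set_option linter.all false
open scoped Cfsg.Agent.FastGrp

/-!
# N2, class S, alternating socle: generating triples (helper62)

`tri_c_a_b_r : Tri (alternatingGroup (Fin c)) a b r`.
-/

set_option autoImplicit false
set_option maxHeartbeats 400000

namespace Cfsg.Agent.N2C.RAlt

open Cfsg.Agent.N2.Tg

theorem tri_5_2_3_5 : Tri (alternatingGroup (Fin 5)) 2 3 5 :=
  tri_of (a := 1) (b := 2) (x := 3277888) (y := 100481)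
    (w := [false, true, false, true, false, true, true])
    (k := 1) (m := 6) (by norm_num) (by decide +kernel)

theorem tri_6_2_4_5 : Tri (alternatingGroup (Fin 6)) 2 4 5 :=
  tri_of (a := 1) (b := 3) (x := 171051009) (y := 2229349)
    (w := [false, true, true, true, false, true, true, false, true])
    (k := 1) (m := 5) (by norm_num) (by decide +kernel)

theorem tri_7_2_4_7 : Tri (alternatingGroup (Fin 7)) 2 4 7 :=
  tri_of (a := 1) (b := 3) (x := 139560998) (y := 4401960000)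
    (w := [false, true, true])
    (k := 2) (m := 5) (by norm_num) (by decide +kernel)

theorem tri_8_2_5_7 : Tri (alternatingGroup (Fin 8)) 2 5 7 :=
  tri_of (a := 1) (b := 4) (x := 174184339457) (y := 245991741474)
    (w := [false, true, true])
    (k := 5) (m := 5) (by norm_num) (by decide +kernel)

theorem tri_8_3_4_7 : Tri (alternatingGroup (Fin 8)) 3 4 7 :=
  tri_of (a := 2) (b := 3) (x := 247132589090) (y := 175222521924)
    (w := [false, true, true, false, true, false, true, false, true, true, false, true])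
    (k := 1) (m := 6) (by norm_num) (by decide +kernel)

theorem tri_8_3_4_5 : Tri (alternatingGroup (Fin 8)) 3 4 5 :=
  tri_of (a := 2) (b := 3) (x := 40972288100) (y := 3429929122)
    (w := [false, true, false, true, true, true, false, true, true, true, false, true, false, true, true])
    (k := 1) (m := 6) (by norm_num) (by decide +kernel)

private noncomputable def _root_.Cfsg.Agent.KO638ef96.oLe.{ku} (α : Sort ku) (a b : Nat) (f t : α) : α := @Decidable.rec (@LE.le Nat instLENat a b) (fun _ => α) (fun _ => f) (fun _ => t) (Nat.decLe a b)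
private noncomputable def _root_.Cfsg.Agent.KO638ef96.k0.{ku} (α : Sort ku) (a b : Nat) (f t : α) : α := @Bool.rec (fun _ => α) f t (Nat.ble a b)
private theorem _root_.Cfsg.Agent.KO638ef96.e0.{ku} : @_root_.Cfsg.Agent.KO638ef96.oLe.{ku} = @_root_.Cfsg.Agent.KO638ef96.k0.{ku} := funext fun α => funext fun a => funext fun b => funext fun f => funext fun t => by delta _root_.Cfsg.Agent.KO638ef96.oLe _root_.Cfsg.Agent.KO638ef96.k0; cases h : Nat.ble a b <;> cases Nat.decLe a b <;> rename_i g <;> first | rfl | exact absurd (h.symm.trans (Nat.ble_eq_true_of_le g)) Bool.false_ne_true | exact absurd (Nat.le_of_ble_eq_true h) g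
private noncomputable def _root_.Cfsg.Agent.KO638ef96.oEq.{ku} (α : Sort ku) (a b : Nat) (f t : α) : α := @Decidable.rec (a = b) (fun _ => α) (fun _ => f) (fun _ => t) (Nat.decEq a b)
private noncomputable def _root_.Cfsg.Agent.KO638ef96.k1.{ku} (α : Sort ku) (a b : Nat) (f t : α) : α := @Bool.rec (fun _ => α) f t (Nat.beq a b)
private theorem _root_.Cfsg.Agent.KO638ef96.e1.{ku} : @_root_.Cfsg.Agent.KO638ef96.oEq.{ku} = @_root_.Cfsg.Agent.KO638ef96.k1.{ku} := funext fun α => funext fun a => funext fun b => funext fun f => funext fun t => by delta _root_.Cfsg.Agent.KO638ef96.oEq _root_.Cfsg.Agent.KO638ef96.k1; cases h : Nat.beq a b <;> cases Nat.decEq a b <;> rename_i g <;> first | rfl | exact absurd g (Nat.ne_of_beq_eq_false h) | exact absurd (Nat.eq_of_beq_eq_true h) g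
private noncomputable def _root_.Cfsg.Agent.KO638ef96.k2 : (by first | exact type_of% @Cfsg.Agent.N2C.RAlt.frc | exact Unit : Sort _) := by first | (refine @Subtype.val _ (fun g => @Cfsg.Agent.N2C.RAlt.frc = @g) (@Subtype.mk _ _ (@(fun x0 x1 x2 => @Nat.rec.{1} @(fun x3 => @x0) (@x2 (nat_lit 0)) @(fun x3 x4 => @x2 (@Nat.succ @x3)) @x1)) ?_); rfl') | exact @Cfsg.Agent.N2C.RAlt.frc | exact ()
private theorem _root_.Cfsg.Agent.KO638ef96.e2 : (by first | exact @Cfsg.Agent.N2C.RAlt.frc = @_root_.Cfsg.Agent.KO638ef96.k2 | exact True : Prop) := by first | (delta _root_.Cfsg.Agent.KO638ef96.k2; exact @Subtype.property _ (fun g => @Cfsg.Agent.N2C.RAlt.frc = @g) _) | rfl | trivial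
private noncomputable def _root_.Cfsg.Agent.KO638ef96.k3 : (by first | exact type_of% @Cfsg.Agent.N2C.RAlt.pr | exact Unit : Sort _) := by first | (refine @Subtype.val _ (fun g => @Cfsg.Agent.N2C.RAlt.pr = @g) (@Subtype.mk _ _ (@(fun x0 x1 x2 => @Nat.add (@Nat.mul (@x1 (@Nat.div @x2 @x0)) @x0) (@x1 (@Nat.mod @x2 @x0)))) ?_); rfl') | exact @Cfsg.Agent.N2C.RAlt.pr | exact ()
private theorem _root_.Cfsg.Agent.KO638ef96.e3 : (by first | exact @Cfsg.Agent.N2C.RAlt.pr = @_root_.Cfsg.Agent.KO638ef96.k3 | exact True : Prop) := by first | (delta _root_.Cfsg.Agent.KO638ef96.k3; exact @Subtype.property _ (fun g => @Cfsg.Agent.N2C.RAlt.pr = @g) _) | rfl | trivial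
private noncomputable def _root_.Cfsg.Agent.KO638ef96.k4 : (by first | exact type_of% @Cfsg.Agent.N2C.RAlt.pas | exact Unit : Sort _) := by first | (refine @Subtype.val _ (fun g => @Cfsg.Agent.N2C.RAlt.pas = @g) (@Subtype.mk _ _ (@(fun x0 x1 x2 x3 => @Nat.rec.{1} @(fun x4 => ℕ → ℕ) @(fun x4 => @x4) @(fun x4 x5 x6 => @Cfsg.Agent.KO638ef96.k2 _ (@Bool.rec.{1} @(fun x7 => ℕ) @x6 (@Nat.lor (@Nat.lor @x6 (@Nat.pow (nat_lit 2) (@Cfsg.Agent.KO638ef96.k3 @x0 @x1 @x4))) (@Nat.pow (nat_lit 2) (@Cfsg.Agent.KO638ef96.k3 @x0 @x2 @x4))) (@Bool.rec.{1} @(fun x7 => @Bool) @Bool.true @Bool.false (@Cfsg.Agent.KO638ef96.k1.{1} @Bool (@Nat.land (nat_lit 1) (@Nat.shiftRight @x6 @x4)) (nat_lit 0) @Bool.false @Bool.true))) @x5) @x3)) ?_); rewrite [← Cfsg.Agent.KO638ef96.e1.{1}, ← Cfsg.Agent.KO638ef96.e3, ← Cfsg.Agent.KO638ef96.e2]; (try delta Cfsg.Agent.N2C.RAlt.pas); (try generalize @Cfsg.Agent.N2C.RAlt.frc = g0); (try generalize @Cfsg.Agent.N2C.RAlt.pr = g1);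 rfl') | exact @Cfsg.Agent.N2C.RAlt.pas | exact ()
private theorem _root_.Cfsg.Agent.KO638ef96.e4 : (by first | exact @Cfsg.Agent.N2C.RAlt.pas = @_root_.Cfsg.Agent.KO638ef96.k4 | exact True : Prop) := by first | (delta _root_.Cfsg.Agent.KO638ef96.k4; exact @Subtype.property _ (fun g => @Cfsg.Agent.N2C.RAlt.pas = @g) _) | rfl | trivial
private noncomputable def _root_.Cfsg.Agent.KO638ef96.k5 : (by first | exact type_of% @Cfsg.Agent.N2C.RAlt.pass | exact Unit : Sort _) := by first | (refine @Subtype.val _ (fun g => @Cfsg.Agent.N2C.RAlt.pass = @g) (@Subtype.mk _ _ (@(fun x0 x1 x2 x3 => @Cfsg.Agent.KO638ef96.k4 @x0 @x1 @x2 (@Nat.mul @x0 @x0) @x3)) ?_); rewrite [← Cfsg.Agent.KO638ef96.e4]; (try delta Cfsg.Agent.N2C.RAlt.pass); (try generalize @Cfsg.Agent.N2C.RAlt.pas = g0); rfl') | exact @Cfsg.Agent.N2C.RAlt.pass | exact ()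
private theorem _root_.Cfsg.Agent.KO638ef96.e5 : (by first | exact @Cfsg.Agent.N2C.RAlt.pass = @_root_.Cfsg.Agent.KO638ef96.k5 | exact True : Prop) := by first | (delta _root_.Cfsg.Agent.KO638ef96.k5; exact @Subtype.property _ (fun g => @Cfsg.Agent.N2C.RAlt.pass = @g) _) | rfl | trivial
private theorem _root_.Cfsg.Agent.KO638ef96.e6.{ku, kv} {α : Type kv} {M : List α → Sort ku} (φ : ∀ l, M l) {z : M List.nil} {s : ∀ a l, M l → M (List.cons a l)} (h0 : φ List.nil = z) (hs : ∀ a l, φ (List.cons a l) = s a l (φ l)) (l : List α) : φ l = @List.rec α M z s l := List.rec h0 (fun a l ih => (hs a l).trans (congrArg (s a l) ih)) l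
private noncomputable def _root_.Cfsg.Agent.KO638ef96.k7.{ku0} : type_of% @List.all.{ku0} := @(fun x0 x1 x2 => @List.rec.{(ku0+1), ku0} @x0 @(fun x3 => (@x0 → @Bool) → @Bool) @(fun x3 => @Bool.true) @(fun x3 x4 x5 x6 => @Bool.rec.{1} @(fun x7 => @Bool) @Bool.false (@x5 @x6) (@x6 @x3)) @x1 @x2)
private theorem _root_.Cfsg.Agent.KO638ef96.e7.{ku0} : @List.all.{ku0} = @_root_.Cfsg.Agent.KO638ef96.k7.{ku0} := by delta _root_.Cfsg.Agent.KO638ef96.k7; funext a0 a1 a2; refine (congrFun (_root_.Cfsg.Agent.KO638ef96.e6 (fun a1 a2 => @List.all.{ku0} a0 a1 a2) ?_ (fun c0 c1 => ?_) a1) a2 :) <;> (rfl')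
private theorem _root_.Cfsg.Agent.KO638ef96.e8.{ku} {M : Nat → Sort ku} (φ : ∀ n, M n) {z : M Nat.zero} {s : ∀ n, M n → M (Nat.succ n)} (h0 : φ Nat.zero = z) (hs : ∀ n, φ (Nat.succ n) = s n (φ n)) (n : Nat) : φ n = @Nat.rec M z s n := Nat.rec h0 (fun n ih => (hs n).trans (congrArg (s n) ih)) n
private noncomputable def _root_.Cfsg.Agent.KO638ef96.k9 : type_of% @List.range.loop := @(fun x0 x1 => @Nat.rec.{1} @(fun x2 => (@List.{0} ℕ) → @List.{0} ℕ) @(fun x2 => @x2) @(fun x2 x3 x4 => @x3 (@x2 :: @x4)) @x0 @x1)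
private theorem _root_.Cfsg.Agent.KO638ef96.e9 : @List.range.loop = @_root_.Cfsg.Agent.KO638ef96.k9 := by delta _root_.Cfsg.Agent.KO638ef96.k9; funext a0 a1; refine (congrFun (_root_.Cfsg.Agent.KO638ef96.e8 (fun a0 a1 => @List.range.loop a0 a1) ?_ (fun c0 => ?_) a0) a1 :) <;> (rfl')
private noncomputable def _root_.Cfsg.Agent.KO638ef96.k10 : (by first | exact type_of% @Cfsg.Agent.N2C.RAlt.two | exact Unit : Sort _) := by first | (refine @Subtype.val _ (fun g => @Cfsg.Agent.N2C.RAlt.two = @g) (@Subtype.mk _ _ (@(fun x0 x1 x2 x3 => @Cfsg.Agent.KO638ef96.k2 _ (@Nat.rec.{1} @(fun x4 => ℕ) (nat_lit 2) @(fun x4 x5 => @Cfsg.Agent.KO638ef96.k5 @x0 @x1 @x2 @x5) @x3) @(fun x4 => @Cfsg.Agent.KO638ef96.k7.{0} _ (@Cfsg.Agent.KO638ef96.k9 @x0 []) @(fun x5 => @Cfsg.Agent.KO638ef96.k7.{0} _ (@Cfsg.Agent.KO638ef96.k9 @x0 []) @(fun x6 => @Bool.rec.{1} @(fun x7 => @Bool) (@Bool.rec.{1} @(fun x7 => @Bool) @Bool.true @Bool.false (@Cfsg.Agent.KO638ef96.k1.{1}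 @Bool (@Nat.land (nat_lit 1) (@Nat.shiftRight @x4 (@Nat.add (@Nat.mul @x5 @x0) @x6))) (nat_lit 0) @Bool.false @Bool.true)) @Bool.true (@Cfsg.Agent.KO638ef96.k1.{1} @Bool @x5 @x6 @Bool.false @Bool.true)))))) ?_); rewrite [← Cfsg.Agent.KO638ef96.e1.{1}, ← Cfsg.Agent.KO638ef96.e9, ← Cfsg.Agent.KO638ef96.e7.{0}, ← Cfsg.Agent.KO638ef96.e5, ← Cfsg.Agent.KO638ef96.e2]; (try delta Cfsg.Agent.N2C.RAlt.two Cfsg.Agent.N2C.RAlt.it); (try generalize @Cfsg.Agent.N2C.RAlt.frc = g0); (try generalize @Cfsg.Agent.N2C.RAlt.pass = g1); rfl') | exact @Cfsg.Agent.N2C.RAlt.two | exact ()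
private theorem _root_.Cfsg.Agent.KO638ef96.e10 : (by first | exact @Cfsg.Agent.N2C.RAlt.two = @_root_.Cfsg.Agent.KO638ef96.k10 | exact True : Prop) := by first | (delta _root_.Cfsg.Agent.KO638ef96.k10; exact @Subtype.property _ (fun g => @Cfsg.Agent.N2C.RAlt.two = @g) _) | rfl | trivial
private noncomputable def _root_.Cfsg.Agent.KO638ef96.k11 : (by first | exact type_of% @Cfsg.Agent.N2C.RAlt.dg | exact Unit : Sort _) := by first | (refine @Subtype.val _ (fun g => @Cfsg.Agent.N2C.RAlt.dg = @g) (@Subtype.mk _ _ (@(fun x0 x1 => @Nat.mod (@Nat.div @x0 (@Nat.pow (nat_lit 32) @x1)) (nat_lit 32))) ?_); rfl') | exact @Cfsg.Agent.N2C.RAlt.dg | exact ()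
private theorem _root_.Cfsg.Agent.KO638ef96.e11 : (by first | exact @Cfsg.Agent.N2C.RAlt.dg = @_root_.Cfsg.Agent.KO638ef96.k11 | exact True : Prop) := by first | (delta _root_.Cfsg.Agent.KO638ef96.k11; exact @Subtype.property _ (fun g => @Cfsg.Agent.N2C.RAlt.dg = @g) _) | rfl | trivial
private noncomputable def _root_.Cfsg.Agent.KO638ef96.k12.{ku0} : type_of% @List.countP.go.{ku0} := @(fun x0 x1 x2 x3 => @List.rec.{1, ku0} @x0 @(fun x4 => ℕ → ℕ) @(fun x4 => @x4) @(fun x4 x5 x6 x7 => @Bool.rec.{1} @(fun x8 => ℕ) (@x6 @x7) (@x6 (@Nat.add @x7 (nat_lit 1))) (@x1 @x4)) @x2 @x3)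
private theorem _root_.Cfsg.Agent.KO638ef96.e12.{ku0} : @List.countP.go.{ku0} = @_root_.Cfsg.Agent.KO638ef96.k12.{ku0} := by delta _root_.Cfsg.Agent.KO638ef96.k12; funext a0 a1 a2 a3; refine (congrFun (_root_.Cfsg.Agent.KO638ef96.e6 (fun a2 a3 => @List.countP.go.{ku0} a0 a1 a2 a3) ?_ (fun c0 c1 => ?_) a2) a3 :) <;> (rfl')
private noncomputable def _root_.Cfsg.Agent.KO638ef96.k13.{ku0, ku1} : type_of% @List.foldr.{ku0, ku1} := @(fun x0 x1 x2 x3 x4 => @List.rec.{(ku1+1), ku0} @x0 @(fun x5 => @x1) @x3 @(fun x5 x6 x7 => @x2 @x5 @x7) @x4)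
private theorem _root_.Cfsg.Agent.KO638ef96.e13.{ku0, ku1} : @List.foldr.{ku0, ku1} = @_root_.Cfsg.Agent.KO638ef96.k13.{ku0, ku1} := by delta _root_.Cfsg.Agent.KO638ef96.k13; funext a0 a1 a2 a3 a4; refine (_root_.Cfsg.Agent.KO638ef96.e6 (fun a4 => @List.foldr.{ku0, ku1} a0 a1 a2 a3 a4) ?_ (fun c0 c1 => ?_) a4 :) <;> (rfl')
private noncomputable def _root_.Cfsg.Agent.KO638ef96.k14 : (by first | exact type_of% @Cfsg.Agent.N2C.RAlt.ok | exact Unit : Sort _) := by first | (refine @Subtype.val _ (fun g => @Cfsg.Agent.N2C.RAlt.ok = @g) (@Subtype.mk _ _ (@(fun x0 x1 x2 x3 x4 x5 x6 x7 x8 => @Bool.rec.{1} @(fun x9 => @Bool) @Bool.false (@Cfsg.Agent.KO638ef96.k10 @x0 (@Cfsg.Agent.KO638ef96.k11 @x1) (@Cfsg.Agent.KO638ef96.k11 @x2) @x8) (@Bool.rec.{1} @(fun x9 => @Bool) @Bool.false (@Cfsg.Agent.KO638ef96.k1.{1} @Bool (@Cfsg.Agent.KO638ef96.k12.{0} _ @(fun x9 => @Bool.rec.{1} @(fun x10 => @Bool) @Bool.true @Bool.false (@Cfsg.Agent.KO638ef96.k1.{1} @Bool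 (@Nat.rec.{1} @(fun x10 => ℕ) @x9 @(fun x10 x11 => @Cfsg.Agent.KO638ef96.k13.{0, 0} _ _ @(fun x12 x13 => @Bool.rec.{1} @(fun x14 => ℕ) (@Cfsg.Agent.KO638ef96.k11 @x1 @x13) (@Cfsg.Agent.KO638ef96.k11 @x2 @x13) @x12) @x11 @x6) @x7) @x9 @Bool.false @Bool.true)) (@Cfsg.Agent.KO638ef96.k9 @x0 []) (nat_lit 0)) (nat_lit 3) @Bool.false @Bool.true) (@Bool.rec.{1} @(fun x9 => @Bool) @Bool.false (@Cfsg.Agent.KO638ef96.k7.{0} _ (@Cfsg.Agent.KO638ef96.k9 @x5 []) @(fun x9 => @Bool.rec.{1} @(fun x10 => @Bool) (@Bool.rec.{1} @(fun x10 => @Bool) @Bool.true @Bool.false (@Cfsg.Agent.KO638ef96.k1.{1} @Bool (@Cfsg.Agent.KO638ef96.k12.{0} _ @(fun x10 => @Bool.rec.{1} @(fun x11 => @Bool) @Bool.true @Bool.false (@Cfsg.Agent.KO638ef96.k1.{1} @Bool (@Nat.rec.{1} @(fun x11 => ℕ) @x10 @(fun x11 x12 => @Cfsg.Agent.KO638ef96.k11 @x1 (@Cfsg.Agent.KO638ef96.k11 @x2 @x12)) @x9) @x10 @Bool.false @Bool.true)) (@Cfsg.Agent.KO638ef96.k9 @x0 []) (nat_lit 0)) (nat_lit 0) @Bool.false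 @Bool.true)) @Bool.true (@Cfsg.Agent.KO638ef96.k1.{1} @Bool @x9 (nat_lit 0) @Bool.false @Bool.true))) (@Bool.rec.{1} @(fun x9 => @Bool) @Bool.false (@Bool.rec.{1} @(fun x9 => @Bool) (@Bool.rec.{1} @(fun x9 => @Bool) @Bool.false (@Cfsg.Agent.KO638ef96.k1.{1} @Bool (@Nat.mod (@Cfsg.Agent.KO638ef96.k12.{0} _ @(fun x9 => @Bool.rec.{1} @(fun x10 => @Bool) @Bool.true @Bool.false (@Cfsg.Agent.KO638ef96.k1.{1} @Bool (@Cfsg.Agent.KO638ef96.k11 @x1 @x9) @x9 @Bool.false @Bool.true)) (@Cfsg.Agent.KO638ef96.k9 @x0 []) (nat_lit 0)) (nat_lit 4)) (nat_lit 0) @Bool.false @Bool.true) (@Cfsg.Agent.KO638ef96.k1.{1} @Bool @x3 (nat_lit 1) @Bool.false @Bool.true)) @Bool.true (@Cfsg.Agent.KO638ef96.k1.{1} @Bool (@Nat.mod @x3 (nat_lit 2)) (nat_lit 0) @Bool.false @Bool.true)) (@Bool.rec.{1} @(fun x9 => @Bool) @Bool.false (@Cfsg.Agent.KO638ef96.k1.{1} @Bool (@Nat.mod @x5 (nat_lit 2)) (nat_lit 1) @Bool.false @Bool.true) (@Bool.rec.{1} @(fun x9 => @Bool) @Bool.false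 (@Cfsg.Agent.KO638ef96.k7.{0} _ (@Cfsg.Agent.KO638ef96.k9 @x0 []) @(fun x9 => @Cfsg.Agent.KO638ef96.k1.{1} @Bool (@Nat.rec.{1} @(fun x10 => ℕ) @x9 @(fun x10 x11 => @Cfsg.Agent.KO638ef96.k11 @x1 (@Cfsg.Agent.KO638ef96.k11 @x2 @x11)) @x5) @x9 @Bool.false @Bool.true)) (@Bool.rec.{1} @(fun x9 => @Bool) @Bool.false (@Cfsg.Agent.KO638ef96.k7.{0} _ (@Cfsg.Agent.KO638ef96.k9 @x0 []) @(fun x9 => @Cfsg.Agent.KO638ef96.k1.{1} @Bool (@Nat.rec.{1} @(fun x10 => ℕ) @x9 @(fun x10 x11 => @Cfsg.Agent.KO638ef96.k11 @x2 @x11) (@Nat.add @x4 (nat_lit 1))) @x9 @Bool.false @Bool.true)) (@Bool.rec.{1} @(fun x9 => @Bool) @Bool.false (@Cfsg.Agent.KO638ef96.k7.{0} _ (@Cfsg.Agent.KO638ef96.k9 @x0 []) @(fun x9 => @Cfsg.Agent.KO638ef96.k0.{1} @Bool (@Nat.succ (@Cfsg.Agent.KO638ef96.k11 @x2 @x9)) @x0 @Bool.false @Bool.true)) (@Bool.rec.{1} @(fun x9 => @Bool) @Bool.false (@Cfsg.Agent.KO638ef96.k7.{0} _ (@Cfsg.Agent.KO638ef96.k9 @x0 []) @(fun x9 => @Cfsg.Agent.KO638ef96.k1.{1}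 @Bool (@Nat.rec.{1} @(fun x10 => ℕ) @x9 @(fun x10 x11 => @Cfsg.Agent.KO638ef96.k11 @x1 @x11) (@Nat.add @x3 (nat_lit 1))) @x9 @Bool.false @Bool.true)) (@Cfsg.Agent.KO638ef96.k7.{0} _ (@Cfsg.Agent.KO638ef96.k9 @x0 []) @(fun x9 => @Cfsg.Agent.KO638ef96.k0.{1} @Bool (@Nat.succ (@Cfsg.Agent.KO638ef96.k11 @x1 @x9)) @x0 @Bool.false @Bool.true)))))))))))) ?_); rewrite [← Cfsg.Agent.KO638ef96.e0.{1}, ← Cfsg.Agent.KO638ef96.e7.{0}, ← Cfsg.Agent.KO638ef96.e9, ← Cfsg.Agent.KO638ef96.e13.{0, 0}, ← Cfsg.Agent.KO638ef96.e12.{0}, ← Cfsg.Agent.KO638ef96.e1.{1}, ← Cfsg.Agent.KO638ef96.e11, ← Cfsg.Agent.KO638ef96.e10]; (try delta Cfsg.Agent.N2C.RAlt.ok Cfsg.Agent.N2C.RAlt.it Cfsg.Agent.N2C.RAlt.mv Cfsg.Agent.N2C.RAlt.wd); (try generalize @Cfsg.Agent.N2C.RAlt.two = g0); (try generalize @Cfsg.Agent.N2C.RAlt.dg = g1); rfl') | exact @Cfsg.Agent.N2C.RAlt.ok | exact ()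
private theorem _root_.Cfsg.Agent.KO638ef96.e14 : (by first | exact @Cfsg.Agent.N2C.RAlt.ok = @_root_.Cfsg.Agent.KO638ef96.k14 | exact True : Prop) := by first | (delta _root_.Cfsg.Agent.KO638ef96.k14; exact @Subtype.property _ (fun g => @Cfsg.Agent.N2C.RAlt.ok = @g) _) | rfl | trivial

theorem tri_9_2_4_7 : Tri (alternatingGroup (Fin 9)) 2 4 7 :=
  tri_of (a := 1) (b := 3) (x := 1344431882498) (y := 110797949188)
    (w := [false, true, false, true, true, true, false, true, false, true, true])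
    (k := 2) (m := 6) (by norm_num) (by (first | (rewrite [Cfsg.Agent.KO638ef96.e14]; decide +kernel) | decide +kernel))

theorem tri_10_2_5_7 : Tri (alternatingGroup (Fin 10)) 2 5 7 :=
  tri_of (a := 1) (b := 4) (x := 291442691087488) (y := 45188426965127)
    (w := [false, true, false, true, true, true])
    (k := 4) (m := 7) (by norm_num) (by (first | (rewrite [Cfsg.Agent.KO638ef96.e14]; decide +kernel) | decide +kernel))

theorem tri_11_2_3_11 : Tri (alternatingGroup (Fin 11)) 2 3 11 :=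
  tri_of (a := 1) (b := 2) (x := 3703331497510913) (y := 106968484391042)
    (w := [false, true, false, true, true, false, true])
    (k := 4) (m := 10) (by norm_num) (by (first | (rewrite [Cfsg.Agent.KO638ef96.e14]; decide +kernel) | decide +kernel))

theorem tri_12_2_3_11 : Tri (alternatingGroup (Fin 12)) 2 3 11 :=
  tri_of (a := 1) (b := 2) (x := 44235901951447392) (y := 118511964813040994)
    (w := [false, true, false, true, true, false, true, false, true, false, true, true, false, true, true])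
    (k := 4) (m := 10) (by norm_num) (by (first | (rewrite [Cfsg.Agent.KO638ef96.e14]; decide +kernel) | decide +kernel))

theorem tri_13_2_3_13 : Tri (alternatingGroup (Fin 13)) 2 3 13 :=
  tri_of (a := 1) (b := 2) (x := 10633421311828986056) (y := 11646462820644749377)
    (w := [false, true, true, false, true, false, true, true, false, true, true, false, true, false, true])
    (k := 4) (m := 10) (by norm_num) (by (first | (rewrite [Cfsg.Agent.KO638ef96.e14]; decide +kernel) | decide +kernel))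

theorem tri_14_2_3_13 : Tri (alternatingGroup (Fin 14)) 2 3 13 :=
  tri_of (a := 1) (b := 2) (x := 235234452268846819687) (y := 89182638553888338150)
    (w := [false, true, true, false, true])
    (k := 11) (m := 9) (by norm_num) (by (first | (rewrite [Cfsg.Agent.KO638ef96.e14]; decide +kernel) | decide +kernel))

theorem tri_15_2_3_13 : Tri (alternatingGroup (Fin 15)) 2 3 13 :=
  tri_of (a := 1) (b := 2) (x := 5210388184932246686920) (y := 3911006252673848750210)
    (w := [false, true, false, true, true])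
    (k := 11) (m := 11) (by norm_num) (by (first | (rewrite [Cfsg.Agent.KO638ef96.e14]; decide +kernel) | decide +kernel))

theorem tri_16_2_3_13 : Tri (alternatingGroup (Fin 16)) 2 3 13 :=
  tri_of (a := 1) (b := 2) (x := 546801990790942150763722) (y := 266831231412680384423178)
    (w := [false, true, false, true, false, true, false, true, false, true, true])
    (k := 10) (m := 10) (by norm_num) (by (first | (rewrite [Cfsg.Agent.KO638ef96.e14]; decide +kernel) | decide +kernel))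

theorem tri_17_2_3_17 : Tri (alternatingGroup (Fin 17)) 2 3 17 :=
  tri_of (a := 1) (b := 2) (x := 13606362824249794730688930) (y := 1284982255788893974892939)
    (w := [false, true, true, false, true, false, true])
    (k := 13) (m := 13) (by norm_num) (by (first | (rewrite [Cfsg.Agent.KO638ef96.e14]; decide +kernel) | decide +kernel))

theorem tri_18_2_3_17 : Tri (alternatingGroup (Fin 18)) 2 3 17 :=
  tri_of (a := 1) (b := 2) (x := 97297757846262602812015660) (y := 478018015008586111811787887)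
    (w := [false, true, true, false, true, false, true, true, false, true])
    (k := 4) (m := 11) (by norm_num) (by (first | (rewrite [Cfsg.Agent.KO638ef96.e14]; decide +kernel) | decide +kernel))

theorem tri_10_2_3_9 : Tri (alternatingGroup (Fin 10)) 2 3 9 :=
  tri_of (a := 1) (b := 2) (x := 149570098141413) (y := 212210216575043)
    (w := [false, true, true, false, true, false, true])
    (k := 4) (m := 7) (by norm_num) (by (first | (rewrite [Cfsg.Agent.KO638ef96.e14]; decide +kernel) | decide +kernel))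

end Cfsg.Agent.N2C.RAlt
end

-- part: N2/Cl/RX/Comb
section
set_option linter.all false
open scoped Cfsg.Agent.FastGrp

/-!
# N2 (S3519), class S: loops, partitions, multiplicities of eigenvalues (helper85)
-/

set_option autoImplicit false

namespace Cfsg.Agent.N2C.RX

open Finset

/-- evaluate `n` first -/
def frc {α : Type} (n : ℕ) (f : ℕ → α) : α := Nat.rec (motive := fun _ => α) (f 0) (fun k _ => f (Nat.succ k)) n

theorem frc_eq {α : Type} (n : ℕ) (f : ℕ → α) : frc n f = f n := by cases n <;> rfl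

/-- `∀ i ∈ [lo, lo + k), f i` -/
def allR (f : ℕ → Bool) : ℕ → ℕ → Bool
  | 0, _ => true
  | k + 1, i => f i && frc (i + 1) (allR f k)

theorem allR_sound {f : ℕ → Bool} {k lo : ℕ} (h : allR f k lo = true) {i : ℕ} (h1 : lo ≤ i) (h2 : i < lo + k) :
    f i = true := by
  induction k generalizing lo with
  | zero => omega
  | succ k ih =>
    rw [allR, Bool.and_eq_true, frc_eq] at h
    rcases h1.eq_or_lt with rfl | h4
    · exact h.1
    · exact ih h.2 h4 (by omega)

/-- `f i` until `stop i` -/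
def allU (stop f : ℕ → Bool) : ℕ → ℕ → Bool
  | 0, _ => false
  | k + 1, i => stop i || (f i && frc (i + 1) (allU stop f k))

theorem allU_sound {stop f : ℕ → Bool} {k lo : ℕ} (h : allU stop f k lo = true) {i : ℕ} (h1 : lo ≤ i) :
    f i = true ∨ ∃ j, lo ≤ j ∧ j ≤ i ∧ stop j = true := by
  induction k generalizing lo with
  | zero => exact absurd h Bool.false_ne_true
  | succ k ih =>
    rw [allU, Bool.or_eq_true, Bool.and_eq_true, frc_eq] at h
    rcases h with h | ⟨h2, h3⟩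
    · exact Or.inr ⟨lo, le_rfl, h1, h⟩
    rcases h1.eq_or_lt with rfl | h4
    · exact Or.inl h2
    · exact (ih h3 h4).imp_right fun ⟨j, a, b, c⟩ => ⟨j, by omega, b, c⟩

/-- all partitions of `s` into at most `z` parts of size at most `m`; `w` is the sum of the squares, `u` the number of parts -/
def allP (f : ℕ → ℕ → Bool) : ℕ → ℕ → ℕ → ℕ → ℕ → Bool
  | 0, s, _, w, u => !Nat.beq s 0 || f w u
  | m + 1, s, z, w, u => bif Nat.beq s 0 then f w u else
      allR (fun c => frc (s - c * (m + 1)) fun s' => frc (z - c) fun z' => frc (w + c * (m + 1) ^ 2) fun w' =>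
        frc (u + c) fun u' => allP f m s' z' w' u') (min (s / (m + 1)) z + 1) 0

theorem allP_sound {f : ℕ → ℕ → Bool} (c : ℕ → ℕ) {m s z w u : ℕ} (h : allP f m s z w u = true)
    (h1 : ∑ i ∈ range m, c i * (i + 1) = s) (h2 : ∑ i ∈ range m, c i ≤ z) :
    f (w + ∑ i ∈ range m, c i * (i + 1) ^ 2) (u + ∑ i ∈ range m, c i) = true := by
  induction m generalizing s z w u with
  | zero =>
    subst h1
    simpa [allP] using h
  | succ m ih =>
    rw [allP] at h
    by_cases hs : s = 0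
    · have h3 : ∀ i ∈ range (m + 1), c i = 0 := fun i hi => by
        simpa using (sum_eq_zero_iff.1 (h1.trans hs)) i hi
      rw [sum_eq_zero h3, sum_eq_zero fun i hi => by rw [h3 i hi, zero_mul]]
      subst hs
      exact h
    · rw [show Nat.beq s 0 = false from by rw [← Bool.not_eq_true, Nat.beq_eq]; exact hs, cond_false] at h
      rw [sum_range_succ] at h1 h2
      have h3 : c m ≤ s / (m + 1) := (Nat.le_div_iff_mul_le (Nat.succ_pos m)).2 (h1 ▸ Nat.le_add_left _ _)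
      have h4 := allR_sound h (Nat.zero_le (c m)) (by omega)
      simp only [frc_eq] at h4
      have h5 := ih h4 (by omega) (by omega)
      rw [sum_range_succ, sum_range_succ, add_comm _ (c m * _), add_comm _ (c m), ← add_assoc, ← add_assoc]
      exact h5

/-- all vectors of multiplicities; arguments of `f` : fixed space, sum of the squares, number of other eigenvalues -/
def allS (f : ℕ → ℕ → ℕ → Bool) (n k tt : ℕ) : Bool :=
  allR (fun s => frc (n - k * s) fun m => allP (fun w u => frc (m ^ 2 + k * w) fun d => frc (k * u) (f m d)) s s tt 0 0) (n / k) 1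

theorem dvd_of_inv {G : Type*} [Group G] [Finite G] (H : Subgroup G) (p : G → Prop) (h : ∀ x ∈ H, ∀ g, p g → p (g * x)) :
    Nat.card H ∣ Nat.card {g // p g} := by
  have e : ∀ g : G, p g ↔ p (g : G ⧸ H).out := fun g => by
    obtain ⟨x, hx⟩ := QuotientGroup.mk_out_eq_mul H g
    rw [hx]
    exact ⟨h x x.2 g, fun h1 => by simpa using h _ (H.inv_mem x.2) _ h1⟩
  rw [Nat.card_congr (Equiv.subtypeEquivRight e), N2.card_pre H fun x => p x.out]
  exact dvd_mul_left _ _

variable {r : ℕ} [hr : Fact r.Prime]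

/-- the level sets are unions of orbits of the stabiliser -/
theorem exists_stab (μ : ZMod r → ℕ) : ∃ h : ℕ, (∀ m, h ∣ (univ.filter fun i => i ≠ 0 ∧ μ i = m).card) ∧
    ∀ a : ZMod r, a ≠ 0 → (∀ i, μ (a * i) = μ i) → orderOf a ∣ h := by
  let H : Subgroup (ZMod r)ˣ :=
    { carrier := {x | ∀ i, μ (x * i) = μ i}
      one_mem' := fun i => by simp
      mul_mem' := fun {a b} ha hb i => by rw [Units.val_mul, mul_assoc, ha, hb]
      inv_mem' := fun {a} ha i => by rw [← ha, Units.mul_inv_cancel_left] }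
  refine ⟨Nat.card H, fun m => ?_, fun a ha h => ?_⟩
  · have h1 := dvd_of_inv H (fun g => μ g = m) fun x hx g hg => by rw [Units.val_mul, mul_comm, hx, hg]
    rwa [show Nat.card {g : (ZMod r)ˣ // μ g = m} = (univ.filter fun i => i ≠ 0 ∧ μ i = m).card from by
      rw [← Fintype.card_coe, ← Nat.card_eq_fintype_card]
      exact Nat.card_congr
        { toFun := fun g => ⟨g.1, by simpa using g.2⟩
          invFun := fun i => ⟨Units.mk0 i.1 (mem_filter.1 i.2).2.1, (mem_filter.1 i.2).2.2⟩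
          left_inv := fun g => by ext; simp
          right_inv := fun i => by ext; simp }] at h1
  · have h1 : Units.mk0 a ha ∈ H := h
    have h2 := H.orderOf_dvd_natCard h1
    rwa [← orderOf_units, Units.val_mk0] at h2

theorem sum_lvl (μ : ZMod r → ℕ) {n : ℕ} (hn : ∀ i, μ i ≤ n) (F : ℕ → ℕ) (hF : F 0 = 0) :
    ∑ i ∈ univ.erase 0, F (μ i) = ∑ m ∈ range n, (univ.filter fun i => i ≠ 0 ∧ μ i = m + 1).card * F (m + 1) := by
  rw [← sum_fiberwise_of_maps_to (s := univ.erase 0) (t := range (n + 1)) (g := μ)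
    (fun i _ => mem_range.2 (Nat.lt_succ_of_le (hn i))), sum_range_succ']
  rw [sum_eq_zero (s := (univ.erase 0).filter fun i => μ i = 0) fun i hi => by rw [(mem_filter.1 hi).2, hF], add_zero]
  refine sum_congr rfl fun m _ => ?_
  rw [sum_congr rfl (g := fun _ => F (m + 1)) fun i hi => by rw [(mem_filter.1 hi).2], sum_const, smul_eq_mul]
  congr 2
  ext i
  simp

/-- **the multiplicities** -/
theorem allS_sound (μ : ZMod r → ℕ) {n k : ℕ} (hk : 0 < k) (hs : ∑ i, μ i = n) (h0 : μ 0 ≠ n)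
    (hd : ∀ m, k ∣ (univ.filter fun i => i ≠ 0 ∧ μ i = m).card) {f : ℕ → ℕ → ℕ → Bool}
    (h : allS f n k ((r - 1) / k) = true) :
    f (μ 0) (∑ i, μ i ^ 2) (univ.filter fun i => i ≠ 0 ∧ μ i ≠ 0).card = true := by
  have hn : ∀ i, μ i ≤ n := fun i => hs ▸ single_le_sum (f := μ) (fun _ _ => Nat.zero_le _) (mem_univ i)
  choose c hc using fun m => hd (m + 1)
  have key : ∀ F : ℕ → ℕ, F 0 = 0 → ∑ i ∈ univ.erase 0, F (μ i) = k * ∑ m ∈ range n, c m * F (m + 1) := fun F hF => by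
    rw [sum_lvl μ hn F hF, mul_sum]
    exact sum_congr rfl fun m _ => by rw [hc, mul_assoc]
  set s := ∑ m ∈ range n, c m * (m + 1) with hs'
  have h1 : μ 0 + k * s = n := by rw [← key (fun m => m) rfl, add_sum_erase _ μ (mem_univ 0), hs]
  have h2 : ∑ i, μ i ^ 2 = μ 0 ^ 2 + k * ∑ m ∈ range n, c m * (m + 1) ^ 2 := by
    rw [← key (fun m => m ^ 2) rfl, add_sum_erase _ (fun i => μ i ^ 2) (mem_univ 0)]
  have h3 : (univ.filter fun i => i ≠ 0 ∧ μ i ≠ 0).card = k * ∑ m ∈ range n, c m := by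
    have h4 := key (fun m => if m ≠ 0 then 1 else 0) rfl
    simp only [Nat.succ_ne_zero, ne_eq, not_false_eq_true, if_true, mul_one] at h4
    rw [← h4, sum_boole, Nat.cast_id]
    congr 1
    ext i
    simp
  have h4 : k * ∑ m ∈ range n, c m ≤ r - 1 := by
    rw [← h3, show r - 1 = (univ.erase (0 : ZMod r)).card by rw [card_erase_of_mem (mem_univ _), card_univ, ZMod.card]]
    exact card_le_card fun i hi => mem_erase.2 ⟨(mem_filter.1 hi).2.1, mem_univ _⟩
  have h5 : 0 < s := Nat.pos_of_ne_zero fun e => h0 (by rw [← h1, e, mul_zero, add_zero])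
  have h6 : s ≤ n := (Nat.le_mul_of_pos_left s hk).trans (by omega)
  have h7 : ∀ F : ℕ → ℕ, ∑ m ∈ range s, c m * F m = ∑ m ∈ range n, c m * F m := fun F =>
    sum_subset (range_subset_range.2 h6) fun m hm hm' => by
      have h8 : c m * (m + 1) ≤ s := single_le_sum (f := fun m => c m * (m + 1)) (fun _ _ => Nat.zero_le _) hm
      rw [mem_range] at hm'
      rcases Nat.eq_zero_or_pos (c m) with h9 | h9
      · rw [h9, zero_mul]
      · have := Nat.le_mul_of_pos_left (m + 1) h9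
        omega
  have h8 : ∑ m ∈ range s, c m = ∑ m ∈ range n, c m := by simpa using h7 fun _ => 1
  have h9 := allR_sound h (i := s) h5 (by
    have : s ≤ n / k := (Nat.le_div_iff_mul_le hk).2 (by rw [mul_comm]; omega)
    omega)
  rw [frc_eq] at h9
  have h10 := allP_sound c h9 (h7 _) (by rw [h8]; exact (Nat.le_div_iff_mul_le hk).2 (by rwa [mul_comm]))
  rwa [frc_eq, frc_eq, zero_add, zero_add, h7, h8, show n - k * s = μ 0 by omega, ← h2, ← h3] at h10

/-- the search for the multiplicative order -/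
def om (a r : ℕ) : ℕ → ℕ → ℕ
  | 0, _ => 0
  | f + 1, e => bif Nat.beq (a ^ e % r) 1 then e else frc (e + 1) (om a r f)

/-- the multiplicative order of `a` modulo `r`, or zero -/
def ordm (a r : ℕ) : ℕ := om a r r 1

theorem pow_one_iff (a e : ℕ) : (a : ZMod r) ^ e = 1 ↔ a ^ e % r = 1 := by
  rw [← Nat.cast_pow, ← Nat.cast_one, ZMod.natCast_eq_natCast_iff', Nat.mod_eq_of_lt hr.out.one_lt]

theorem om_eq (a : ℕ) {f e : ℕ} (he : 0 < e) (h : ∀ i, i < e → 0 < i → (a : ZMod r) ^ i ≠ 1) (h0 : om a r f e ≠ 0) :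
    orderOf (a : ZMod r) = om a r f e := by
  induction f generalizing e with
  | zero => exact absurd rfl h0
  | succ f ih =>
    rw [om] at h0 ⊢
    by_cases h1 : a ^ e % r = 1
    · rw [show Nat.beq (a ^ e % r) 1 = true from Nat.beq_eq ▸ h1, cond_true]
      exact (orderOf_eq_iff he).2 ⟨(pow_one_iff a e).2 h1, h⟩
    · rw [show Nat.beq (a ^ e % r) 1 = false from by rw [← Bool.not_eq_true, Nat.beq_eq]; exact h1, cond_false,
        frc_eq] at h0 ⊢
      refine ih (Nat.succ_pos e) (fun i h2 h3 => ?_) h0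
      rcases (Nat.lt_succ_iff.1 h2).eq_or_lt with rfl | h4
      · exact fun h5 => h1 ((pow_one_iff a i).1 h5)
      · exact h i h4 h3

theorem ordm_eq {a : ℕ} (h : ordm a r ≠ 0) : orderOf (a : ZMod r) = ordm a r :=
  om_eq a one_pos (fun i h1 h2 => by omega) h

theorem ne_zero_of_ordm {a : ℕ} (h : ordm a r ≠ 0) : (a : ZMod r) ≠ 0 := fun e => by
  have h1 := pow_orderOf_eq_one (a : ZMod r)
  rw [ordm_eq h, e, zero_pow h] at h1
  exact zero_ne_one h1

end Cfsg.Agent.N2C.RX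

private theorem dce_893fb4f9d697 : _root_.True := by
  try have : _root_.True := by simp only [_root_.Cfsg.Agent.N2C.RX.allP.eq_2]
  try have : _root_.True := by simp only [_root_.Cfsg.Agent.N2C.RX.allU.eq_def]
  try have : _root_.True := by simp only [_root_.Cfsg.Agent.N2C.RX.om.eq_2]
  try have : _root_.True := by simp only [_root_.Cfsg.Agent.N2C.RX.allP.eq_def]
  try have : _root_.True := by simp only [_root_.Cfsg.Agent.N2C.RX.allP.eq_1]
  try have : _root_.True := by simp only [_root_.Cfsg.Agent.N2C.RX.allR.eq_def]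
  try have : _root_.True := by simp only [_root_.Cfsg.Agent.N2C.RX.om.eq_1]
  try have : _root_.True := by simp only [_root_.Cfsg.Agent.N2C.RX.allR.eq_2]
  try have : _root_.True := by simp only [_root_.Cfsg.Agent.N2C.RX.allU.eq_1]
  try have : _root_.True := by simp only [_root_.Cfsg.Agent.N2C.RX.om.eq_def]
  try have : _root_.True := by simp only [_root_.Cfsg.Agent.N2C.RX.allR.eq_1]
  try have : _root_.True := by simp only [_root_.Cfsg.Agent.N2C.RX.allU.eq_2]
  exact _root_.True.intro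
end

-- part: N2/D4m/Up
section
set_option linter.all false
open scoped Cfsg.Agent.FastGrp

/-!
# N2: almost simple point stabilisers, the criterion with a cyclic Sylow subgroup (helper21)

* `fx_le_relIndex` : no fusion; `good_up` : from `N` to an overgroup; `Cy1 N r M` : one class of subgroups of order `r`,
  normaliser of order at least `M`; `good_of_cy1`.
-/

set_option autoImplicit false
set_option linter.unusedSectionVars false

namespace Cfsg.Agent.N2C.N4

open Subgroup Cfsg.Agent.N2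
open Cfsg.Agent.FP3 (Good MI fx)

variable {T : Type*} [Group T] [Finite T]

/-- the conjugates of `a` in `B` are conjugate in `B` -/
theorem fx_le_relIndex {B : Subgroup T} {a : T} (h : ∀ g, g⁻¹ * a * g ∈ B → ∃ n ∈ B, g⁻¹ * a * g = n⁻¹ * a * n) :
    fx B a ≤ B.relIndex (centralizer {a}) := by
  have k : ∀ x : MulAction.fixedBy (T ⧸ B) a, ∃ c : centralizer ({a} : Set T), ((c : T) : T ⧸ B) = x.1 := fun x => by
    obtain ⟨n, hn, e⟩ := h x.1.out ((smul_mk_iff B a _).1 (by rw [QuotientGroup.out_eq']; exact x.2))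
    refine ⟨⟨x.1.out * n⁻¹, mem_centralizer_singleton_iff.2 ?_⟩, ?_⟩
    · calc x.1.out * n⁻¹ * a = x.1.out * (n⁻¹ * a * n) * n⁻¹ := by group
        _ = _ := by rw [← e]; group
    · exact (QuotientGroup.mk_mul_of_mem _ (inv_mem hn)).trans (QuotientGroup.out_eq' _)
  choose f hf using k
  refine Nat.card_le_card_of_injective (fun x => (f x : _ ⧸ B.subgroupOf (centralizer {a}))) fun x y e => Subtype.ext ?_
  rw [← hf, ← hf]
  have h1 : (f x)⁻¹ * f y ∈ B.subgroupOf (centralizer {a}) := QuotientGroup.eq.1 e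
  exact QuotientGroup.eq.2 h1

/-- the conjugates of `x` in `A` lie in `N` -/
theorem good_up {N A : Subgroup T} (hN : N ≤ A) {x : T} (hx : x ∈ N) (h : ∀ g, g⁻¹ * x * g ∈ A → g⁻¹ * x * g ∈ N)
    (h3 : fx N x ^ 3 ≤ N.index) : Good A := by
  have h1 : cc A x = cc N x := Nat.card_congr (Equiv.subtypeEquivRight fun y => and_congr_right fun hy => by
    obtain ⟨g, rfl⟩ := isConj_iff.1 hy
    exact ⟨fun k => by simpa using h g⁻¹ (by simpa using k), fun k => hN k⟩)
  have h2 := fx_mul A x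
  have h4 := (N.subgroupOf A).index_mul_card
  have h5 := relIndex_mul_index hN
  rw [Nat.card_congr (subgroupOfEquivOfLe hN).toEquiv] at h4
  rw [h1, ← fx_mul, ← h4, ← mul_assoc] at h2
  have h6 := Nat.eq_of_mul_eq_mul_right Nat.card_pos h2
  have h7 : 0 < N.relIndex A := Nat.pos_of_ne_zero index_ne_zero_of_finite
  rw [← h6, ← h5] at h3
  change (_ * N.relIndex A) ^ 3 ≤ _ at h3
  refine ⟨x, hN hx, Nat.le_of_mul_le_mul_left (le_trans ?_ h3) h7⟩
  rw [mul_pow, mul_comm]
  exact Nat.mul_le_mul_left _ (Nat.le_self_pow three_ne_zero _)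

/-- elements of order prime to `|Out N|` -/
theorem mem_of_cop {N A : Subgroup T} (hN : N ≤ A) (hn : A ≤ normalizer (N : Set T))
    (hc : ∀ t ∈ A, (∀ x ∈ N, t * x = x * t) → t = 1) {k r : ℕ} (hk : Nat.card (MulAut N) ∣ k * Nat.card N)
    (hr : r.Coprime k) {y : T} (hy : y ∈ A) (h1 : y ^ r = 1) : y ∈ N := by
  have h2 : Nat.card A ∣ Nat.card (MulAut N) := card_dvd_of_injective (N.normalizerMonoidHom.comp (inclusion hn))
    ((injective_iff_map_eq_one _).2 fun a ha => Subtype.ext (hc a a.2 fun x hx => by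
      have h3 := congrArg Subtype.val (DFunLike.congr_fun ha ⟨x, hx⟩)
      exact mul_inv_eq_iff_eq_mul.1 h3))
  have h4 := (N.subgroupOf A).index_mul_card
  rw [Nat.card_congr (subgroupOfEquivOfLe hN).toEquiv] at h4
  have h5 : (N.subgroupOf A).index ∣ k := Nat.dvd_of_mul_dvd_mul_right Nat.card_pos (h4 ▸ h2.trans hk)
  have : (N.subgroupOf A).Normal := ⟨fun w hw v => (mem_normalizer_iff.1 (hn v.2) w).1 hw⟩
  have h6 : y ^ (N.subgroupOf A).index ∈ N := (N.subgroupOf A).pow_index_mem ⟨y, hy⟩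
  have h7 : (orderOf y).Coprime (N.subgroupOf A).index :=
    (hr.coprime_dvd_right h5).coprime_dvd_left (orderOf_dvd_of_pow_eq_one h1)
  obtain ⟨m, hm⟩ := exists_pow_eq_self_of_coprime h7.symm
  exact hm ▸ pow_mem h6 m

/-- one class of subgroups of order `r`, with a normaliser of order at least `M` -/
def Cy1 (N : Type*) [Group N] (r M : ℕ) : Prop := ∃ x : N, orderOf x = r ∧
  (∀ y : N, orderOf y = r → ∃ g : N, g⁻¹ * y * g ∈ zpowers x) ∧ M ≤ Nat.card (normalizer (zpowers x : Set N))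

omit [Finite T] in
theorem Cy1.congr {G : Type*} [Group G] (e : G ≃* T) {r M : ℕ} (h : Cy1 T r M) : Cy1 G r M := by
  obtain ⟨x, h1, h2, h3⟩ := h
  obtain ⟨x, rfl⟩ := e.surjective x
  have h4 : (zpowers x).map e.toMonoidHom = zpowers (e x) := MonoidHom.map_zpowers _ _
  refine ⟨x, (e.orderOf_eq x).symm.trans h1, fun y hy => ?_, ?_⟩
  · obtain ⟨g, hg⟩ := h2 (e y) ((e.orderOf_eq y).trans hy)
    obtain ⟨g, rfl⟩ := e.surjective g
    rw [← map_inv, ← map_mul, ← map_mul, ← h4] at hg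
    exact ⟨g, (mem_map_iff_mem (f := e.toMonoidHom) e.injective).1 hg⟩
  · rwa [← h4, ← map_equiv_normalizer_eq, card_map_of_injective e.injective] at h3

theorem mem_zpowers_of_cyc {V : Subgroup T} (hV : IsCyclic V) {x y : T} (hx : x ∈ V) (hy : y ∈ V)
    (h : y ^ orderOf x = 1) : y ∈ zpowers x := by
  classical
  have := Fintype.ofFinite V
  have h1 := IsCyclic.card_pow_eq_one_le (α := V) (orderOf_pos x)
  have h2 : (zpowers (⟨x, hx⟩ : V) : Set V).toFinset = Finset.univ.filter fun a : V => a ^ orderOf x = 1 := by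
    refine Finset.eq_of_subset_of_card_le (fun a ha => ?_) (h1.trans (le_of_eq ?_))
    · obtain ⟨i, rfl⟩ := Set.mem_toFinset.1 ha
      refine Finset.mem_filter.2 ⟨Finset.mem_univ _, Subtype.ext ?_⟩
      change (x ^ i) ^ orderOf x = 1
      rw [← zpow_natCast, ← zpow_mul, mul_comm, zpow_mul, zpow_natCast, pow_orderOf_eq_one, one_zpow]
    · rw [Set.toFinset_card, ← Nat.card_eq_fintype_card]
      exact ((Nat.card_zpowers _).trans (orderOf_mk _ _)).symm
  obtain ⟨i, hi⟩ := Set.mem_toFinset.1 (h2.ge (Finset.mem_filter.2 ⟨Finset.mem_univ (⟨y, hy⟩ : V), Subtype.ext h⟩))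
  exact ⟨i, congrArg Subtype.val hi⟩

/-- a cyclic subgroup which contains a Sylow subgroup -/
theorem cy1_of_cyc {V : Subgroup T} (hV : IsCyclic V) {r M : ℕ} (hr : r.Prime) (h1 : r ∣ Nat.card V) (h2 : ¬ r ∣ V.index)
    (h3 : M ≤ Nat.card (normalizer (V : Set T))) : Cy1 T r M := by
  have := Fact.mk hr
  obtain ⟨x, hx⟩ := exists_prime_orderOf_dvd_card' (G := V) r h1
  rw [← orderOf_coe] at hx
  obtain ⟨P⟩ : Nonempty (Sylow r V) := inferInstance
  let Q : Sylow r T := (P.isPGroup'.map V.subtype).toSylow (by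
    rw [index_map_subtype]
    exact fun k => (hr.dvd_mul.1 k).elim P.not_dvd_index h2)
  refine ⟨x, hx, fun y hy => ?_, h3.trans (card_le_of_le fun n hn => mem_normalizer_fintype fun y hy => ?_)⟩
  · obtain ⟨R, hR⟩ := (IsPGroup.of_card (G := zpowers y) (n := 1)
      (by rw [Nat.card_zpowers, hy, pow_one])).exists_le_sylow
    obtain ⟨c, hc⟩ := MulAction.exists_smul_eq T R Q
    have h4 : c * y * c⁻¹ ∈ (Q : Subgroup T) := by
      rw [← hc, Sylow.coe_subgroup_smul]
      exact smul_mem_pointwise_smul y (MulAut.conj c) _ (hR (mem_zpowers y))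
    refine ⟨c⁻¹, mem_zpowers_of_cyc hV x.2 (by simpa using map_subtype_le _ h4) ?_⟩
    rw [inv_inv, conj_pow, hx, ← hy, pow_orderOf_eq_one, mul_one, mul_inv_cancel]
  · refine mem_zpowers_of_cyc hV x.2 ((mem_normalizer_iff.1 hn y).1 (zpowers_le.2 x.2 hy)) ?_
    rw [conj_pow, orderOf_dvd_iff_pow_eq_one.1 (orderOf_dvd_of_mem_zpowers hy), mul_one, mul_inv_cancel]

theorem zpowers_eq_of_order {x y : T} (h : y ∈ zpowers x) (ho : orderOf y = orderOf x) : zpowers y = zpowers x :=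
  eq_of_le_of_card_ge (zpowers_le.2 h) (by rw [Nat.card_zpowers, Nat.card_zpowers, ho])

theorem orderOf_cj (g x : T) : orderOf (g⁻¹ * x * g) = orderOf x := by
  simpa using (MulAut.conj g⁻¹).orderOf_eq x

/-- the number of fixed cosets of `N` -/
theorem fx_mul_le {N : Subgroup T} {x : N} {M : ℕ} (h2 : ∀ y : N, orderOf y = orderOf x → ∃ g : N, g⁻¹ * y * g ∈ zpowers x)
    (h3 : M ≤ Nat.card (normalizer (zpowers x : Set N))) :
    fx N x * M ≤ Nat.card (normalizer (zpowers (x : T) : Set T)) := by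
  have hz : ∀ y : N, y ∈ zpowers x → (y : T) ∈ zpowers (x : T) := by
    rintro _ ⟨i, rfl⟩
    exact ⟨i, rfl⟩
  have hc : ∀ t : T, cj t (zpowers (x : T)) = zpowers (t⁻¹ * x * t) := fun t => by
    refine (eq_of_le_of_card_ge (zpowers_le.2 (mem_cj.2 (by simp [mul_assoc]))) ?_).symm
    rw [card_cj, Nat.card_zpowers, Nat.card_zpowers, orderOf_cj]
  rw [← fs_mul (zpowers_le.2 x.2) fun t ht => ?_]
  · refine Nat.mul_le_mul (fx_le_fs N le_rfl) (h3.trans (Nat.card_le_card_of_injective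
      (fun n => ⟨n.1, mem_normalizer_fintype ?_, n.1.2⟩) fun _ _ e => Subtype.ext (Subtype.ext (Subtype.mk.inj e))))
    rintro _ ⟨i, rfl⟩
    exact hz _ ((mem_normalizer_iff.1 n.2 (x ^ i)).1 ⟨i, rfl⟩)
  · rw [hc] at ht ⊢
    obtain ⟨g, hg⟩ := h2 ⟨_, ht (mem_zpowers _)⟩ (by rw [orderOf_mk, orderOf_cj, orderOf_coe])
    have h4 := zpowers_eq_of_order (hz _ hg) (by rw [coe_mul, coe_mul, coe_inv, orderOf_cj, orderOf_cj])
    refine ⟨(g : T)⁻¹, inv_mem g.2, ?_⟩
    rw [← h4]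
    refine eq_of_le_of_card_ge (zpowers_le.2 (mem_cj.2 (by rw [inv_inv]; exact mem_zpowers _))) ?_
    rw [card_cj, Nat.card_zpowers, Nat.card_zpowers, coe_mul, coe_mul, coe_inv, orderOf_cj (g : T)]

/-- **the criterion** -/
theorem good_of_cy1 {N A : Subgroup T} (hN : N ≤ A) (hn : A ≤ normalizer (N : Set T))
    (hc : ∀ t ∈ A, (∀ x ∈ N, t * x = x * t) → t = 1) {k r M c : ℕ} (hk : Nat.card (MulAut N) ∣ k * Nat.card N)
    (hr : r.Coprime k) (h : Cy1 N r M) (hM : 0 < M)
    (hx : ∀ x ∈ N, orderOf x = r → Nat.card (normalizer (zpowers x : Set T)) ≤ c)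
    (hi : c ^ 3 * Nat.card N ≤ M ^ 3 * Nat.card T) : Good A := by
  obtain ⟨x, h1, h2, h3⟩ := h
  have h4 := (fx_mul_le (h1 ▸ h2) h3).trans (hx x x.2 ((orderOf_coe x).trans h1))
  refine good_up hN x.2 (fun g hg => mem_of_cop hN hn hc hk hr hg ?_) ?_
  · rw [← orderOf_dvd_iff_pow_eq_one, orderOf_cj, orderOf_coe, h1]
  · rw [← N.index_mul_card, ← mul_assoc] at hi
    have h5 := (Nat.pow_le_pow_left h4 3).trans (Nat.le_of_mul_le_mul_right hi Nat.card_pos)
    rw [mul_pow, mul_comm] at h5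
    exact Nat.le_of_mul_le_mul_left h5 (pow_pos hM 3)

/-- the normaliser of a cyclic group -/
theorem card_norm_le {x : T} {w : ℕ} (h : {y | y ∈ zpowers x ∧ IsConj x y}.ncard ≤ w) :
    Nat.card (normalizer (zpowers x : Set T)) ≤ w * cn x := by
  have h1 := ((centralizer {x}).subgroupOf (normalizer (zpowers x : Set T))).index_mul_card
  rw [← h1]
  refine Nat.mul_le_mul (le_trans ?_ h) (Nat.card_le_card_of_injective (fun c => ⟨c.1, c.2⟩)
    fun _ _ e => Subtype.ext (Subtype.ext (Subtype.mk.inj e)))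
  refine Nat.card_le_card_of_injective (fun z => (⟨(z.out : T) * x * (z.out : T)⁻¹,
    (mem_normalizer_iff.1 z.out.2 x).1 (mem_zpowers x), isConj_iff.2 ⟨_, rfl⟩⟩ : {y | y ∈ zpowers x ∧ IsConj x y}))
    fun z z' e => ?_
  rw [← QuotientGroup.out_eq' z, ← QuotientGroup.out_eq' z']
  refine QuotientGroup.eq.2 (mem_centralizer_singleton_iff.2 ?_)
  have h2 := Subtype.mk.inj e
  calc (z.out : T)⁻¹ * z'.out * x = (z.out : T)⁻¹ * (z'.out * x * (z'.out : T)⁻¹) * z'.out := by group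
    _ = x * ((z.out : T)⁻¹ * z'.out) := by rw [← h2]; group

end Cfsg.Agent.N2C.N4
end

-- part: N2/Sp3/Gen
section
set_option linter.all false
open scoped Cfsg.Agent.FastGrp

/-!
# N2 (S3519), sporadic rows: two general lemmas (helper23)
-/

set_option autoImplicit false

namespace Cfsg.Agent.N2.Sp3

open Cfsg Cfsg.Agent.FP3 Subgroup

variable {G : Type*} [Group G] {A : Subgroup G} {Γ : Subgroup (MulAut G)}

/-- without outer automorphisms `A` is a maximal subgroup -/
theorem coatom_of_mi (ho : Nat.card (Out G) = 1) (h : MI A Γ) : IsCoatom A := by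
  have h2 : Cfsg.Inn G = ⊤ := index_eq_one.1 ho
  refine ⟨h.ne_top, fun B hB => (h.max B hB.le fun σ hσ b hb => ?_).resolve_left hB.ne'⟩
  obtain ⟨a, rfl⟩ : σ ∈ Cfsg.Inn G := h2 ▸ mem_top σ
  have h3 := hB.le ((h.conj a).1 hσ)
  exact B.mul_mem (B.mul_mem h3 hb) (B.inv_mem h3)

/-- a prime whose elements have small centralisers -/
theorem good_of_prime [Finite G] {p c : ℕ} (hp : p.Prime) (hd : p ∣ Nat.card A) (h : ∀ x : G, orderOf x = p → cn x ≤ c)
    (hc : c ^ 3 * Nat.card A ≤ Nat.card G) : Good A := by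
  have := Fact.mk hp
  obtain ⟨x, hx⟩ := exists_prime_orderOf_dvd_card' (G := A) p hd
  exact good_of_cn x.2 (h x (by rw [orderOf_coe, hx])) hc

theorem cn_of {x : G} {p n : ℕ} (hx : orderOf x = p) (h : ∀ Q : Subgroup G, Nat.card Q = p → Nat.card (centralizer (Q : Set G)) = n) :
    cn x = n := by
  rw [← h (zpowers x) (by rw [Nat.card_zpowers, hx]), cn]
  refine congrArg (fun H : Subgroup G => Nat.card H) (le_antisymm (fun y hy => mem_centralizer_iff.2 ?_)
    (centralizer_le (Set.singleton_subset_iff.2 (mem_zpowers x))))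
  rintro _ ⟨k, rfl⟩
  exact (Commute.zpow_left (mem_centralizer_iff.1 hy x rfl) k).eq

end Cfsg.Agent.N2.Sp3

private theorem dce_4687dccd2df7 : _root_.True := by
  try have : _root_.True := by simp only [_root_.Cfsg.Agent.N2.cn.eq_1]
  exact _root_.True.intro
end

-- part: N2/L2/Mat
section
set_option linter.all false
open scoped Cfsg.Agent.FastGrp

/-!
# N2 (S3519), `T = PSL₂(q)`: commuting elements, centralisers and fusion (helper61)
-/

set_option autoImplicit false
set_option linter.unusedSectionVars false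

namespace Cfsg.Agent.N2.L2

open Cfsg.Agent.FP3 Subgroup Matrix Cfsg.Agent.H158.PslTwoClass Cfsg.Agent.ClassicalGeometry

/-- the group `PSL₂(F)` -/
abbrev PL (F : Type*) [Field F] : Type _ := Matrix.ProjectiveSpecialLinearGroup (Fin 2) F

/-- the group `SL₂(F)` -/
abbrev SL2 (F : Type*) [Field F] : Type _ := Matrix.SpecialLinearGroup (Fin 2) F

variable {F : Type*} [Field F]

/-- not an involution in odd characteristic -/
def Nz (x : PL F) : Prop := x * x ≠ 1 ∨ (2 : F) = 0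

theorem Nz.conj {x : PL F} (h : Nz x) {y : PL F} (hy : orderOf y = orderOf x) : Nz y := by
  rcases h with h | h
  · refine Or.inl fun k => h ?_
    rw [← pow_two, ← orderOf_dvd_iff_pow_eq_one] at k ⊢
    rwa [← hy]
  · exact Or.inr h

theorem mk_neg (X : SL2 F) : (QuotientGroup.mk (-X) : PL F) = QuotientGroup.mk X := by
  rw [QuotientGroup.eq, PSL2Basic.mem_center_SL2_iff]
  right
  rw [inv_neg, neg_mul, inv_mul_cancel]

theorem tr_of_nz {X : SL2 F} (h : Nz (QuotientGroup.mk X : PL F)) : (2 : F) = 0 ∨ X.1 0 0 + X.1 1 1 ≠ 0 := by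
  rcases h with h | h
  · refine Or.inr fun k => h ?_
    rw [← QuotientGroup.mk_mul, mul_self_of_trace k, mk_neg, QuotientGroup.mk_one]
  · exact Or.inl h

theorem lift_comm {X Y : SL2 F} (h : Commute (QuotientGroup.mk X : PL F) (QuotientGroup.mk Y))
    (hn : Nz (QuotientGroup.mk X : PL F)) : X * Y = Y * X := by
  have h1 : Y ∈ pre X := by
    unfold pre
    rw [mem_comap, mem_centralizer_singleton_iff]
    exact h.eq.symm
  rw [pre_eq (tr_of_nz hn), mem_centralizer_singleton_iff] at h1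
  exact h1.symm

theorem not_scalar {Z : SL2 F} (h : (QuotientGroup.mk Z : PL F) ≠ 1) (c : F) : Z.1 ≠ c • 1 := by
  intro k
  apply h
  rw [QuotientGroup.eq_one_iff, mem_center_iff]
  intro g
  apply Subtype.ext
  rw [Matrix.SpecialLinearGroup.coe_mul, Matrix.SpecialLinearGroup.coe_mul]
  change g.1 * Z.1 = Z.1 * g.1
  rw [k, Matrix.mul_smul, Matrix.smul_mul, Matrix.mul_one, Matrix.one_mul]

/-- a matrix which commutes with a non-scalar matrix -/
theorem exists_lin {X Z : Matrix (Fin 2) (Fin 2) F} (hZ : ∀ c : F, Z ≠ c • 1) (h : X * Z = Z * X) :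
    ∃ α β : F, X = α • Z + β • 1 := by
  have e00 := congrFun (congrFun h 0) 0
  have e01 := congrFun (congrFun h 0) 1
  have e10 := congrFun (congrFun h 1) 0
  simp only [Matrix.mul_apply, Fin.sum_univ_two] at e00 e01 e10
  by_cases hb : Z 0 1 = 0
  · by_cases hc : Z 1 0 = 0
    · have hd : Z 0 0 - Z 1 1 ≠ 0 := fun k => hZ (Z 0 0) (by
        ext i j
        (revert i j; simp only [hb, hc, _root_.Fin.forall_fin_succ, Fin.isValue, _root_.Matrix.smul_apply, _root_.smul_eq_mul, _root_.Fin.succ_zero_eq_one, _root_.IsEmpty.forall_iff, _root_.Matrix.one_apply_eq, _root_.mul_one, Nat.reduceAdd, _root_.ne_eq, _root_.zero_ne_one, _root_.not_false_eq_true, _root_.Matrix.one_apply_ne, _root_.MulZeroClass.mul_zero, _root_.Fin.succ_ne_zero, _root_.and_true, _root_.true_and]) <;> (repeat' with_reducible apply And.intro)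
        linear_combination -k)
      refine ⟨(X 0 0 - X 1 1) / (Z 0 0 - Z 1 1), X 0 0 - (X 0 0 - X 1 1) / (Z 0 0 - Z 1 1) * Z 0 0, ?_⟩
      have x1 : X 0 1 = 0 := by
        have : X 0 1 * (Z 0 0 - Z 1 1) = 0 := by rw [hb] at e01; linear_combination -e01
        exact (mul_eq_zero.1 this).resolve_right hd
      have x2 : X 1 0 = 0 := by
        have : X 1 0 * (Z 0 0 - Z 1 1) = 0 := by rw [hc] at e10; linear_combination e10
        exact (mul_eq_zero.1 this).resolve_right hd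
      ext i j
      (revert i j; simp only [hb, hc, x1, x2, _root_.Fin.forall_fin_succ, Fin.isValue, _root_.Matrix.add_apply, _root_.Matrix.smul_apply, _root_.smul_eq_mul, _root_.Fin.succ_zero_eq_one, _root_.IsEmpty.forall_iff, _root_.Matrix.one_apply_eq, _root_.mul_one, _root_.add_sub_cancel, _root_.MulZeroClass.mul_zero, Nat.reduceAdd, _root_.ne_eq, _root_.zero_ne_one, _root_.not_false_eq_true, _root_.Matrix.one_apply_ne, _root_.add_zero, _root_.Fin.succ_ne_zero, _root_.and_true, _root_.true_and]) <;> (repeat' with_reducible apply And.intro)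
      field_simp
      ring
    · refine ⟨X 1 0 / Z 1 0, X 0 0 - X 1 0 / Z 1 0 * Z 0 0, ?_⟩
      ext i j
      (revert i j; simp only [_root_.Fin.forall_fin_succ, Fin.isValue, _root_.Matrix.add_apply, _root_.Matrix.smul_apply, _root_.smul_eq_mul, _root_.Fin.succ_zero_eq_one, _root_.IsEmpty.forall_iff, _root_.Matrix.one_apply_eq, _root_.mul_one, _root_.add_sub_cancel, Nat.reduceAdd, _root_.ne_eq, _root_.zero_ne_one, _root_.not_false_eq_true, _root_.Matrix.one_apply_ne, _root_.MulZeroClass.mul_zero, _root_.add_zero, _root_.Fin.succ_ne_zero, _root_.and_true, _root_.true_and]) <;> (repeat' with_reducible apply And.intro)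
      · field_simp
        linear_combination e00
      · field_simp
      · field_simp
        linear_combination e10
  · refine ⟨X 0 1 / Z 0 1, X 0 0 - X 0 1 / Z 0 1 * Z 0 0, ?_⟩
    ext i j
    (revert i j; simp only [_root_.Fin.forall_fin_succ, Fin.isValue, _root_.Matrix.add_apply, _root_.Matrix.smul_apply, _root_.smul_eq_mul, _root_.Fin.succ_zero_eq_one, _root_.IsEmpty.forall_iff, _root_.Matrix.one_apply_eq, _root_.mul_one, _root_.add_sub_cancel, Nat.reduceAdd, _root_.ne_eq, _root_.zero_ne_one, _root_.not_false_eq_true, _root_.Matrix.one_apply_ne, _root_.MulZeroClass.mul_zero, _root_.add_zero, _root_.Fin.succ_ne_zero, _root_.and_true, _root_.true_and]) <;> (repeat' with_reducible apply And.intro)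
    · field_simp
    · field_simp
      linear_combination -e00
    · field_simp
      linear_combination -e01

/-- two elements which commute with a third one -/
theorem comm_of {z u v : PL F} (hz : z ≠ 1) (hu : Commute u z) (hv : Commute v z) (hn : Nz z ∨ (Nz u ∧ Nz v)) :
    Commute u v := by
  obtain ⟨Z, rfl⟩ := QuotientGroup.mk_surjective z
  obtain ⟨U, rfl⟩ := QuotientGroup.mk_surjective u
  obtain ⟨V, rfl⟩ := QuotientGroup.mk_surjective v
  have h1 : U * Z = Z * U := hn.elim (fun k => (lift_comm hu.symm k).symm) fun k => lift_comm hu k.1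
  have h2 : V * Z = Z * V := hn.elim (fun k => (lift_comm hv.symm k).symm) fun k => lift_comm hv k.2
  obtain ⟨a, b, e1⟩ := exists_lin (not_scalar hz) (X := U.1) (congrArg Subtype.val h1)
  obtain ⟨c, d, e2⟩ := exists_lin (not_scalar hz) (X := V.1) (congrArg Subtype.val h2)
  have h3 : U * V = V * U := by
    apply Subtype.ext
    change U.1 * V.1 = V.1 * U.1
    rw [e1, e2]
    simp only [Matrix.add_mul, Matrix.mul_add, Matrix.smul_mul, Matrix.mul_smul, Matrix.mul_one, Matrix.one_mul, smul_add,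
      smul_smul]
    rw [mul_comm a c, mul_comm b c, mul_comm a d, mul_comm b d]
    abel
  show QuotientGroup.mk (U * V) = QuotientGroup.mk (V * U)
  rw [h3]

/-- unipotent elements -/
theorem unip_pow (p : ℕ) [Fact p.Prime] [CharP F p] {X : SL2 F} {r : F} (hr : r * r = 1) (ht : X.1 0 0 + X.1 1 1 = 2 * r) :
    (QuotientGroup.mk X : PL F) ^ p = 1 := by
  have hp : p.Prime := Fact.out
  have h1 : (X.1 - r • 1) * (X.1 - r • 1) = 0 := by
    have h2 := PSL2Basic.sl2_mul_self X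
    rw [trace_fin_two] at h2
    change X.1 * X.1 = (X.1 0 0 + X.1 1 1) • X.1 - 1 at h2
    rw [ht] at h2
    simp only [Matrix.sub_mul, Matrix.mul_sub, Matrix.smul_mul, Matrix.mul_smul, Matrix.mul_one, Matrix.one_mul, smul_sub,
      smul_smul, hr, one_smul, h2]
    module
  have h2 : (X.1 - r • 1) ^ p = 0 := by
    obtain ⟨k, hk⟩ : ∃ k, p = k + 2 := ⟨p - 2, by have := hp.two_le; omega⟩
    rw [hk, pow_add, pow_two, h1, mul_zero]
  have h3 : X.1 ^ p = (r ^ p) • (1 : Matrix (Fin 2) (Fin 2) F) := by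
    have h4 : Commute (X.1 - r • 1) (r • (1 : Matrix (Fin 2) (Fin 2) F)) := (Commute.one_right _).smul_right r
    have h5 := add_pow_char_of_commute p h4
    rw [sub_add_cancel, h2, zero_add, smul_pow, one_pow] at h5
    exact h5
  by_contra k
  rw [← QuotientGroup.mk_pow] at k
  exact not_scalar k (r ^ p) (by rw [← h3]; exact Matrix.SpecialLinearGroup.coe_pow X p)

/-- a conjugate of a semisimple element which commutes with it -/
theorem eq_or_inv (p : ℕ) [Fact p.Prime] [CharP F p] {x y : PL F} (h2 : x * x ≠ 1) (hp : x ^ p ≠ 1) (hc : IsConj x y)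
    (h : Commute x y) : y = x ∨ y = x⁻¹ := by
  obtain ⟨t, rfl⟩ := isConj_iff.1 hc
  obtain ⟨X, rfl⟩ := QuotientGroup.mk_surjective x
  obtain ⟨T, rfl⟩ := QuotientGroup.mk_surjective t
  rw [← QuotientGroup.mk_mul, ← QuotientGroup.mk_inv, ← QuotientGroup.mk_mul] at h ⊢
  obtain ⟨Y, hY⟩ : ∃ Y, Y = T * X * T⁻¹ := ⟨_, rfl⟩
  rw [← hY] at h ⊢
  have htr : Y.1 0 0 + Y.1 1 1 = X.1 0 0 + X.1 1 1 := by
    rw [← trace_fin_two, ← trace_fin_two, hY]
    change trace (T.1 * X.1 * (T⁻¹).1) = _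
    rw [trace_mul_cycle]
    have : (T⁻¹).1 * T.1 = 1 := congrArg Subtype.val (inv_mul_cancel T)
    rw [this, Matrix.one_mul]
  have h1 : X * Y = Y * X := lift_comm h (Or.inl h2)
  have hx1 : (QuotientGroup.mk X : PL F) ≠ 1 := fun k => h2 (by rw [k, one_mul])
  obtain ⟨a, b, e⟩ := exists_lin (not_scalar hx1) (X := Y.1) (congrArg Subtype.val h1.symm)
  have dX : X.1 0 0 * X.1 1 1 - X.1 0 1 * X.1 1 0 = 1 := by rw [← Matrix.det_fin_two]; exact X.2
  have dY : Y.1 0 0 * Y.1 1 1 - Y.1 0 1 * Y.1 1 0 = 1 := by rw [← Matrix.det_fin_two]; exact Y.2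
  have y00 : Y.1 0 0 = a * X.1 0 0 + b := by rw [e]; simp
  have y01 : Y.1 0 1 = a * X.1 0 1 := by rw [e]; simp
  have y10 : Y.1 1 0 = a * X.1 1 0 := by rw [e]; simp
  have y11 : Y.1 1 1 = a * X.1 1 1 + b := by rw [e]; simp
  obtain ⟨τ, hτ⟩ : ∃ τ, τ = X.1 0 0 + X.1 1 1 := ⟨_, rfl⟩
  have k1 : a * τ + 2 * b = τ := by rw [y00, y11] at htr; rw [hτ]; linear_combination htr
  have k2 : a ^ 2 + a * b * τ + b ^ 2 = 1 := by
    rw [y00, y01, y10, y11] at dY
    rw [hτ]
    linear_combination dY - a ^ 2 * dX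
  have k3 : τ ^ 2 - 4 ≠ 0 := by
    intro k
    have k4 : (τ - 2) * (τ + 2) = 0 := by linear_combination k
    rcases mul_eq_zero.1 k4 with k5 | k5
    · exact hp (unip_pow p (r := 1) (by ring) (by rw [← hτ]; linear_combination k5))
    · exact hp (unip_pow p (r := -1) (by ring) (by rw [← hτ]; linear_combination k5))
  have k4 : a ^ 2 = 1 := by
    have : (a ^ 2 - 1) * (τ ^ 2 - 4) = 0 := by linear_combination (a * τ + 2 * b + τ) * k1 - 4 * k2
    linear_combination (mul_eq_zero.1 this).resolve_right k3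
  have k5 : b * (a * τ + b) = 0 := by linear_combination k2 - k4
  have ka : (a - 1) * (a + 1) = 0 := by linear_combination k4
  have hinv : (X⁻¹).1 = !![X.1 1 1, -X.1 0 1; -X.1 1 0, X.1 0 0] := by
    rw [Matrix.SpecialLinearGroup.SL2_inv_expl]
    rfl
  rcases mul_eq_zero.1 k5 with k6 | k6 <;> rcases mul_eq_zero.1 ka with k7 | k7
  · left
    congr 1
    apply Subtype.ext
    rw [e, k6, show a = 1 by linear_combination k7, one_smul, zero_smul, add_zero]
  · left
    rw [← mk_neg X]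
    congr 1
    apply Subtype.ext
    rw [e, k6, show a = -1 by linear_combination k7, zero_smul, add_zero, neg_smul, one_smul]
    rfl
  · right
    rw [← QuotientGroup.mk_inv, ← mk_neg X⁻¹]
    congr 1
    apply Subtype.ext
    have ea : a = 1 := by linear_combination k7
    have eb : b = -τ := by rw [ea] at k6; linear_combination k6
    rw [Matrix.SpecialLinearGroup.coe_neg, hinv]
    ext i j
    (revert i j; simp only [y00, y01, y10, y11, ea, eb, hτ, _root_.Fin.forall_fin_succ, Fin.isValue, _root_.Matrix.neg_apply, _root_.Matrix.of_apply, _root_.Matrix.cons_val', _root_.Matrix.cons_val_fin_one, _root_.Matrix.cons_val_zero, _root_.Matrix.cons_val_succ, _root_.Fin.succ_zero_eq_one, _root_.IsEmpty.forall_iff, _root_.and_true, _root_.one_mul, _root_.neg_add_rev, _root_.add_neg_cancel_comm_assoc, _root_.neg_neg, _root_.and_self, _root_.add_neg_cancel_left])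
  · right
    rw [← QuotientGroup.mk_inv]
    congr 1
    apply Subtype.ext
    have ea : a = -1 := by linear_combination k7
    have eb : b = τ := by rw [ea] at k6; linear_combination k6
    rw [hinv]
    ext i j
    (revert i j; simp only [y00, y01, y10, y11, ea, eb, hτ, _root_.Fin.forall_fin_succ, Fin.isValue, _root_.Matrix.of_apply, _root_.Matrix.cons_val', _root_.Matrix.cons_val_fin_one, _root_.Matrix.cons_val_zero, _root_.Matrix.cons_val_succ, _root_.Fin.succ_zero_eq_one, _root_.IsEmpty.forall_iff, _root_.and_true, _root_.neg_mul, _root_.one_mul, _root_.neg_add_cancel_left, _root_.and_self, _root_.neg_add_cancel_comm_assoc])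

variable [Fintype F]

/-- the centraliser of a semisimple element -/
theorem cn_le (p : ℕ) [Fact p.Prime] [CharP F p] {x : PL F} (h2 : x * x ≠ 1) (hp : x ^ p ≠ 1) :
    cn x * Nat.gcd 2 (Fintype.card F - 1) ≤ Fintype.card F + 1 := by
  obtain ⟨X, rfl⟩ := QuotientGroup.mk_surjective x
  have hx1 : (QuotientGroup.mk X : PL F) ≠ 1 := fun k => h2 (by rw [k, one_mul])
  have h1 := (centralizer ({(QuotientGroup.mk X : PL F)} : Set (PL F))).card_mul_index
  have h3 := PSL2Basic.card_PSL2_gcd F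
  rw [index_pre] at h1
  rw [← h1, sq_sub_one _ Fintype.card_pos] at h3
  have hq : 1 < Fintype.card F := Fintype.one_lt_card
  unfold cn
  generalize Nat.card (centralizer ({(QuotientGroup.mk X : PL F)} : Set (PL F))) = c at h3 ⊢
  generalize Nat.gcd 2 (Fintype.card F - 1) = d at h3 ⊢
  rcases cases_t (X.1 0 0 + X.1 1 1) with ⟨r, a1, a2, a3⟩ | ⟨r, a1, a2⟩ | a1
  · rw [index_split (not_scalar hx1) (tr_of_nz (Or.inl h2)) a1 a2 a3] at h3
    have h4 : c * d * (Fintype.card F * (Fintype.card F + 1)) =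
        (Fintype.card F - 1) * (Fintype.card F * (Fintype.card F + 1)) := by linear_combination h3
    have h5 := Nat.eq_of_mul_eq_mul_right (by positivity) h4
    omega
  · exact absurd (unip_pow p a1 a2) hp
  · rw [index_irr (not_scalar hx1) (tr_of_nz (Or.inl h2)) a1] at h3
    have h4 : c * d * (Fintype.card F * (Fintype.card F - 1)) =
        (Fintype.card F + 1) * (Fintype.card F * (Fintype.card F - 1)) := by linear_combination h3
    have h5 := Nat.eq_of_mul_eq_mul_right (Nat.mul_pos (by omega) (by omega)) h4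
    omega

theorem exists_pp {G : Type*} [Group G] [Finite G] {a : G} (h : a * a ≠ 1) :
    ∃ r k n : ℕ, r.Prime ∧ a ^ k * a ^ k ≠ 1 ∧ orderOf (a ^ k) = r ^ n := by
  by_cases ho : ∃ r, r.Prime ∧ r ∣ orderOf a ∧ r ≠ 2
  · obtain ⟨r, hr, ⟨k, hk⟩, h2⟩ := ho
    have hk0 : k ≠ 0 := by
      rintro rfl
      exact (orderOf_pos a).ne' hk
    have h1 : orderOf (a ^ k) = r := by
      rw [orderOf_pow_of_dvd hk0 ⟨r, by rw [hk, mul_comm]⟩, hk, Nat.mul_div_cancel _ (Nat.pos_of_ne_zero hk0)]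
    refine ⟨r, k, 1, hr, fun e => h2 ?_, by rw [h1, pow_one]⟩
    rw [← pow_two, ← orderOf_dvd_iff_pow_eq_one, h1] at e
    exact (Nat.prime_dvd_prime_iff_eq hr Nat.prime_two).1 e
  · have h1 := Nat.eq_prime_pow_of_unique_prime_dvd (p := 2) (orderOf_pos a).ne'
      fun hd hdv => by_contra fun k => ho ⟨_, hd, hdv, k⟩
    exact ⟨2, 1, _, Nat.prime_two, by rwa [pow_one], by rw [pow_one]; exact h1⟩

/-- two elements of a subgroup of prime power order have a common centralising element -/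
theorem exists_cen {G : Type*} [Group G] [Finite G] {r : ℕ} [Fact r.Prime] {S : Subgroup G} (hS : IsPGroup r S) {x : G}
    (hx : x ∈ S) (h1 : x ≠ 1) : ∃ z : G, z ≠ 1 ∧ ∀ y ∈ S, Commute y z := by
  have : Nontrivial S := ⟨⟨⟨x, hx⟩, 1, fun k => h1 (congrArg Subtype.val k)⟩⟩
  have := hS.center_nontrivial
  obtain ⟨z, hz⟩ := exists_ne (1 : center S)
  refine ⟨z.1.1, fun k => hz (Subtype.ext (Subtype.ext k)), fun y hy => ?_⟩
  exact congrArg Subtype.val (mem_center_iff.1 z.2 ⟨y, hy⟩)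

/-- **fusion**: the conjugates in a subgroup of a semisimple element -/
theorem fus (p : ℕ) [Fact p.Prime] [CharP F p] {A : Subgroup (PL F)} {a g : PL F} (ha : a ∈ A) (hg : g ∈ A)
    (h2 : a * a ≠ 1) (hp : a ^ p ≠ 1) (hc : IsConj a g) : ∃ b ∈ A, b * g * b⁻¹ = a ∨ b * g * b⁻¹ = a⁻¹ := by
  obtain ⟨r, k, n, hr, k2, kn⟩ := exists_pp h2
  have : Fact r.Prime := ⟨hr⟩
  obtain ⟨t, ht⟩ := isConj_iff.1 hc
  have ho : orderOf (g ^ k) = orderOf (a ^ k) := by
    rw [← ht, conj_pow]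
    exact (MulAut.conj t).orderOf_eq (a ^ k)
  have p1 : IsPGroup r (zpowers (⟨a, ha⟩ ^ k : A)) :=
    IsPGroup.of_card (n := n) (by rw [Nat.card_zpowers, ← Subgroup.orderOf_coe]; exact kn)
  have p2 : IsPGroup r (zpowers (⟨g, hg⟩ ^ k : A)) :=
    IsPGroup.of_card (n := n) (by rw [Nat.card_zpowers, ← Subgroup.orderOf_coe]; exact ho.trans kn)
  obtain ⟨S1, s1⟩ := p1.exists_le_sylow
  obtain ⟨S2, s2⟩ := p2.exists_le_sylow
  obtain ⟨b, hb⟩ := MulAction.exists_smul_eq A S2 S1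
  have m1 : (⟨a, ha⟩ ^ k : A) ∈ (S1 : Subgroup A) := s1 (mem_zpowers _)
  have m2 : b * (⟨g, hg⟩ ^ k : A) * b⁻¹ ∈ (S1 : Subgroup A) := by
    rw [← hb]
    exact ⟨_, s2 (mem_zpowers _), rfl⟩
  have n1 : a ^ k ≠ 1 := fun e => k2 (by rw [e, one_mul])
  obtain ⟨z, hz, hzc⟩ := exists_cen S1.isPGroup' m1 fun e => n1 (congrArg Subtype.val e)
  have c1 : Commute (a ^ k) (z : PL F) := congrArg Subtype.val (hzc _ m1)
  have c2 : Commute (((b : PL F) * g * (b : PL F)⁻¹) ^ k) (z : PL F) := by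
    rw [conj_pow]
    exact congrArg Subtype.val (hzc _ m2)
  have o1 : orderOf ((b : PL F) * g * (b : PL F)⁻¹) = orderOf a := by
    rw [← ht]
    exact ((MulAut.conj (b : PL F)).orderOf_eq _).trans ((MulAut.conj t).orderOf_eq a)
  have o2 : orderOf (((b : PL F) * g * (b : PL F)⁻¹) ^ k) = orderOf (a ^ k) := by
    rw [conj_pow]
    exact ((MulAut.conj (b : PL F)).orderOf_eq _).trans ho
  have z1 : Nz (a ^ k) := Or.inl k2
  have z2 : Nz (((b : PL F) * g * (b : PL F)⁻¹) ^ k) := z1.conj o2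
  have c3 : Commute (a ^ k) (((b : PL F) * g * (b : PL F)⁻¹) ^ k) :=
    comm_of (fun e => hz (Subtype.ext e)) c1 c2 (Or.inr ⟨z1, z2⟩)
  have c4 : Commute a (((b : PL F) * g * (b : PL F)⁻¹) ^ k) := comm_of n1 (Commute.self_pow a k) c3.symm (Or.inl z1)
  have n2 : ((b : PL F) * g * (b : PL F)⁻¹) ^ k ≠ 1 := fun e => n1 (by rw [← orderOf_eq_one_iff, ← o2, e, orderOf_one])
  have c5 : Commute a ((b : PL F) * g * (b : PL F)⁻¹) := comm_of n2 c4 (Commute.self_pow _ k) (Or.inl z2)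
  exact ⟨b, b.2, eq_or_inv p h2 hp (hc.trans (isConj_iff.2 ⟨b, rfl⟩)) c5⟩

end Cfsg.Agent.N2.L2
end

-- part: N2/L2/Main
section
set_option linter.all false
open scoped Cfsg.Agent.FastGrp

/-!
# N2 (S3519): the row `T = PSL₂(q)` (helper61)
-/

set_option autoImplicit false
set_option linter.unusedSectionVars false

namespace Cfsg.Agent.N2.L2

open Cfsg.Agent.FP3 Subgroup Cfsg.Agent.ClassicalGeometry

section gen

variable {T : Type*} [Group T] [Finite T] [IsSimpleGroup T] {A : Subgroup T} {Γ : Subgroup (MulAut T)}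

/-- a self-normalising abelian subgroup of prime power order (Burnside) -/
theorem not_ab (h : MI A Γ) {r : ℕ} [Fact r.Prime] (hP : IsPGroup r A) (hc : ∀ x ∈ A, ∀ y ∈ A, x * y = y * x) : False := by
  obtain ⟨S, hS⟩ := hP.exists_le_sylow
  have hAS : (S : Subgroup T) = A := by
    by_contra hne
    have hlt : A.subgroupOf (S : Subgroup T) < ⊤ :=
      lt_top_iff_ne_top.2 fun k => hne (le_antisymm (subgroupOf_eq_top.1 k) hS)
    have := S.isPGroup'.isNilpotent
    obtain ⟨x, hx1, hx2⟩ := SetLike.exists_of_lt (Group.normalizerCondition_of_isNilpotent _ hlt)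
    refine hx2 (mem_subgroupOf.2 ?_)
    rw [← mi_self h]
    refine mem_normalizer_fintype fun y hy => ?_
    exact mem_subgroupOf.1 ((mem_normalizer_iff.1 hx1 ⟨y, hS hy⟩).1 (mem_subgroupOf.2 hy))
  have hN : normalizer ((S : Subgroup T) : Set T) ≤ centralizer ((S : Subgroup T) : Set T) := by
    rw [hAS, mi_self h]
    exact fun x hx => mem_centralizer_iff.2 fun y hy => hc y hy x hx
  have h1 := MonoidHom.ker_transferSylow_isComplement' S hN
  rcases IsSimpleGroup.eq_bot_or_eq_top_of_normal _ (MonoidHom.normal_ker (MonoidHom.transferSylow S hN)) with k | k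
  · rw [k] at h1
    exact h.ne_top (hAS ▸ isComplement'_bot_left.1 h1)
  · rw [k] at h1
    exact h.ne_bot (hAS ▸ isComplement'_top_left.1 h1)

omit [IsSimpleGroup T] in
/-- the conjugates of `a` in `A` are conjugate under `B` -/
theorem cc_mul_le {B : Subgroup T} {a : T} (ha : a ∈ B) (h : ∀ g ∈ A, IsConj a g → ∃ b ∈ B, b * a * b⁻¹ = g) :
    cc A a * orderOf a ≤ Nat.card B := by
  have h1 : Nat.card B = (zpowers (⟨a, ha⟩ : B)).index * orderOf a := by
    rw [← (zpowers (⟨a, ha⟩ : B)).index_mul_card, Nat.card_zpowers, ← Subgroup.orderOf_coe]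
  rw [h1]
  refine Nat.mul_le_mul_right _ ?_
  choose f hf1 hf2 using fun g : {g : T // IsConj a g ∧ g ∈ A} => h g.1 g.2.2 g.2.1
  refine Nat.card_le_card_of_injective (fun g => ((⟨f g, hf1 g⟩ : B) : B ⧸ zpowers (⟨a, ha⟩ : B))) fun g g' e => ?_
  obtain ⟨i, hi⟩ := QuotientGroup.eq.1 e
  have h2 : a ^ i = (f g)⁻¹ * f g' := congrArg Subtype.val hi
  have h3 : f g' = f g * a ^ i := by rw [h2, mul_inv_cancel_left]
  apply Subtype.ext
  rw [← hf2 g, ← hf2 g', h3]
  group

end gen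

variable {F : Type*} [Field F] [Fintype F] [IsSimpleGroup (PL F)] {A : Subgroup (PL F)} {Γ : Subgroup (MulAut (PL F))}

/-- the elements of `A` of the order of `u` commute with `u` -/
theorem good_of_comm (h : MI A Γ) {u : PL F} (hu : u ∈ A) (h1 : u ≠ 1) (hn : Nz u)
    (hc : ∀ x ∈ A, orderOf x = orderOf u → Commute x u) : Good A := by
  have key : ∀ x ∈ A, orderOf x = orderOf u → ∀ w, Commute w u ↔ Commute w x := fun x hx ho w =>
    ⟨fun k => comm_of h1 k (hc x hx ho) (Or.inl hn), fun k => comm_of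
      (fun e => h1 (by rw [← orderOf_eq_one_iff, ← ho, e, orderOf_one])) k (hc x hx ho).symm (Or.inl (hn.conj ho))⟩
  have hi : Inv Γ (centralizer ({u} : Set (PL F))) := fun σ hσ w hw => by
    rw [mem_centralizer_singleton_iff] at hw ⊢
    refine (key (σ u) ((h.inv σ hσ u).2 hu) (σ.orderOf_eq u) (σ w)).2 ?_
    exact (Commute.map hw σ)
  have hN := mi_norm h hi (fun e => h1 (mem_bot.1 (e ▸ mem_centralizer_singleton_iff.2 rfl))) fun e => by
    have hA : A.Normal := ⟨fun x hx g => by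
      have k : Commute g x := comm_of h1 (mem_centralizer_singleton_iff.1 (e ▸ mem_top g))
        (mem_centralizer_singleton_iff.1 (e ▸ mem_top x)) (Or.inl hn)
      rwa [k.eq, mul_inv_cancel_right]⟩
    exact hA.eq_bot_or_eq_top.elim h.ne_bot h.ne_top
  refine good_of_one hu (fx_le_one fun t ht => ?_)
  rw [← hN]
  have ho : orderOf (t⁻¹ * u * t) = orderOf u := by
    have := (MulAut.conj t⁻¹).orderOf_eq u
    rwa [MulAut.conj_apply, inv_inv] at this
  refine mem_normalizer_iff.2 fun w => ?_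
  rw [mem_centralizer_singleton_iff, mem_centralizer_singleton_iff]
  refine (key _ ht ho w).trans ⟨fun k => ?_, fun k => ?_⟩
  · calc t * w * t⁻¹ * u = t * (w * (t⁻¹ * u * t)) * t⁻¹ := by group
      _ = u * (t * w * t⁻¹) := by rw [k.eq]; group
  · show w * (t⁻¹ * u * t) = t⁻¹ * u * t * w
    calc w * (t⁻¹ * u * t) = t⁻¹ * (t * w * t⁻¹ * u) * t := by group
      _ = _ := by rw [k]; group

theorem good_ab (h : MI A Γ) (hc : ∀ x ∈ A, ∀ y ∈ A, x * y = y * x) : Good A := by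
  by_cases k : ∃ u ∈ A, u * u ≠ 1
  · obtain ⟨u, hu, h2⟩ := k
    exact good_of_comm h hu (fun e => h2 (by rw [e, one_mul])) (Or.inl h2) fun x hx _ => hc x hx u hu
  · refine (not_ab h (r := 2) (fun x => ⟨1, Subtype.ext ?_⟩) hc).elim
    rw [pow_one, pow_two]
    exact by_contra fun e => k ⟨x, x.2, e⟩

theorem good_dih (h : MI A Γ) {k : ℕ} (e : A ≃* DihedralGroup k) : Good A := by
  have hk : k ≠ 0 := by
    rintro rfl
    have h1 : 0 < Nat.card A := Nat.card_pos
    rw [Nat.card_congr e.toEquiv, DihedralGroup.nat_card] at h1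
    omega
  by_cases h3 : 3 ≤ k
  · have : NeZero k := ⟨hk⟩
    have ho : orderOf (e.symm (DihedralGroup.r 1) : PL F) = k := by
      rw [Subgroup.orderOf_coe, MulEquiv.orderOf_eq, DihedralGroup.orderOf_r_one]
    have h2 : (e.symm (DihedralGroup.r 1) : PL F) * e.symm (DihedralGroup.r 1) ≠ 1 := fun z => by
      rw [← pow_two, ← orderOf_dvd_iff_pow_eq_one, ho] at z
      have := Nat.le_of_dvd (by norm_num) z
      omega
    refine good_of_comm h (e.symm (DihedralGroup.r 1)).2 (fun z => h2 (by rw [z, one_mul])) (Or.inl h2) fun x hx hox => ?_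
    have h4 : orderOf (e ⟨x, hx⟩) = k := by rw [MulEquiv.orderOf_eq, ← Subgroup.orderOf_coe, hox, ho]
    have h5 : Commute (e ⟨x, hx⟩) (DihedralGroup.r 1) := by
      generalize e ⟨x, hx⟩ = y at h4
      rcases y with i | i
      · show DihedralGroup.r i * DihedralGroup.r 1 = DihedralGroup.r 1 * DihedralGroup.r i
        rw [DihedralGroup.r_mul_r, DihedralGroup.r_mul_r, add_comm]
      · rw [DihedralGroup.orderOf_sr] at h4
        omega
    have h6 := h5.map e.symm
    rw [MulEquiv.symm_apply_apply] at h6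
    exact congrArg Subtype.val h6.eq
  · refine good_ab h fun x hx y hy => ?_
    have h4 : ∀ a b : DihedralGroup k, a * b = b * a := by
      obtain rfl | rfl : k = 1 ∨ k = 2 := by omega
      · decide
      · decide
    exact congrArg Subtype.val (e.injective (by rw [map_mul, map_mul, h4]) : (⟨x, hx⟩ * ⟨y, hy⟩ : A) = ⟨y, hy⟩ * ⟨x, hx⟩)

theorem nz_of_order (p : ℕ) [Fact p.Prime] [CharP F p] {u : PL F} (hu : orderOf u = p) : Nz u := by
  by_cases h2 : p = 2
  · subst h2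
    exact Or.inr (by exact_mod_cast CharP.cast_eq_zero F 2)
  · refine Or.inl fun k => h2 ?_
    rw [← pow_two, ← orderOf_dvd_iff_pow_eq_one, hu] at k
    exact (Nat.prime_dvd_prime_iff_eq Fact.out Nat.prime_two).1 k

theorem good_bor (p : ℕ) [Fact p.Prime] [CharP F p] (h : MI A Γ) (hp : p ∣ Nat.card A) (P : Sylow p (PL F))
    (hP : A ≤ normalizer ((P : Subgroup (PL F)) : Set (PL F))) : Good A := by
  obtain ⟨u, hu⟩ := exists_prime_orderOf_dvd_card' p hp
  rw [← Subgroup.orderOf_coe] at hu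
  have key : ∀ x ∈ A, orderOf x = p → x ∈ (P : Subgroup (PL F)) := fun x hx ho => by
    have h1 : IsPGroup p (zpowers x) := IsPGroup.of_card (n := 1) (by rw [Nat.card_zpowers, ho, pow_one])
    have h2 := h1.inf_normalizer_sylow P
    have h3 : x ∈ zpowers x ⊓ normalizer ((P : Subgroup (PL F)) : Set (PL F)) := ⟨mem_zpowers x, hP hx⟩
    exact (h2 ▸ h3).2
  have h1 : (u : PL F) ≠ 1 := fun e => (Fact.out : p.Prime).one_lt.ne (by rw [← hu, e, orderOf_one])
  obtain ⟨z, hz, hzc⟩ := exists_cen P.isPGroup' (key u u.2 hu) h1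
  exact good_of_comm h u.2 h1 (nz_of_order p hu) fun x hx ho => comm_of hz (hzc x (key x hx (ho.trans hu)))
    (hzc _ (key u u.2 hu)) (Or.inr ⟨nz_of_order p (ho.trans hu), nz_of_order p hu⟩)

theorem card_T (F : Type*) [Field F] [Fintype F] : Nat.card (PL F) * Nat.gcd 2 (Fintype.card F - 1) =
    Fintype.card F * (Fintype.card F - 1) * (Fintype.card F + 1) := by
  rw [PSL2Basic.card_PSL2_gcd, H158.PslTwoClass.sq_sub_one _ Fintype.card_pos, mul_assoc]

theorem gcd_odd {q : ℕ} (h : Odd q) : Nat.gcd 2 (q - 1) = 2 := Nat.gcd_eq_left (Nat.Odd.sub_odd h odd_one).two_dvd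

theorem gcd_even {q : ℕ} (h : Even q) (hq : 1 ≤ q) : Nat.gcd 2 (q - 1) = 1 := by
  rw [← Nat.coprime_iff_gcd_eq_one, Nat.coprime_two_left]
  exact Nat.Even.sub_odd hq h odd_one

omit [IsSimpleGroup (PL F)] in
/-- a real semisimple element of a normal subgroup -/
theorem good_hom (p : ℕ) [Fact p.Prime] [CharP F p] {H : Type*} [Group H] (ψ : H →* A) (hψ : Function.Injective ψ)
    (hn : ψ.range.Normal) {a w : H} (hw : w * a * w⁻¹ = a⁻¹) {m : ℕ} (hm : orderOf a = m) (h3 : 3 ≤ m) (hp : ¬ p ∣ m)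
    (hc : (Fintype.card F + 1) ^ 2 * Nat.card H ≤
      Nat.gcd 2 (Fintype.card F - 1) ^ 2 * m ^ 3 * (Fintype.card F * (Fintype.card F - 1))) : Good A := by
  have ho : orderOf (ψ a : PL F) = m := by rw [Subgroup.orderOf_coe, orderOf_injective ψ hψ, hm]
  have h2 : (ψ a : PL F) * ψ a ≠ 1 := fun z => by
    rw [← pow_two, ← orderOf_dvd_iff_pow_eq_one, ho] at z
    have := Nat.le_of_dvd (by norm_num) z
    omega
  have hp' : (ψ a : PL F) ^ p ≠ 1 := fun z => by
    rw [← orderOf_dvd_iff_pow_eq_one, ho] at z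
    rcases (Nat.dvd_prime Fact.out).1 z with k | k
    · omega
    · exact hp (k ▸ dvd_rfl)
  let B : Subgroup (PL F) := (A.subtype.comp ψ).range
  have hB : Nat.card B = Nat.card H :=
    (Nat.card_congr (MonoidHom.ofInjective (A.subtype_injective.comp hψ : Function.Injective (A.subtype.comp ψ))).toEquiv).symm
  have hBA : B ≤ A := by
    rintro _ ⟨x, rfl⟩
    exact (ψ x).2
  have h4 : cc A (ψ a : PL F) * m ≤ Nat.card H := by
    rw [← ho, ← hB]
    refine cc_mul_le ⟨a, rfl⟩ fun g hg hcj => ?_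
    have hgB : g ∈ B := by
      obtain ⟨b, hb, k⟩ := fus p (ψ a).2 hg h2 hp' hcj
      have k1 : (⟨b, hb⟩ * ⟨g, hg⟩ * ⟨b, hb⟩⁻¹ : A) ∈ ψ.range := k.elim (fun k => ⟨a, Subtype.ext k.symm⟩)
        fun k => ⟨a⁻¹, Subtype.ext (by rw [map_inv]; exact k.symm)⟩
      obtain ⟨x, hx⟩ := hn.conj_mem _ k1 ⟨b, hb⟩⁻¹
      refine ⟨x, ?_⟩
      show (ψ x : PL F) = g
      rw [hx]
      show b⁻¹ * (b * g * b⁻¹) * b⁻¹⁻¹ = g
      group
    obtain ⟨b, hb, k | k⟩ := fus p (A := B) (a := (ψ a : PL F)) ⟨a, rfl⟩ hgB h2 hp' hcj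
    · refine ⟨b⁻¹, B.inv_mem hb, ?_⟩
      rw [← k]
      group
    · refine ⟨b⁻¹ * ψ w, B.mul_mem (B.inv_mem hb) ⟨w, rfl⟩, ?_⟩
      have k2 : (ψ w : PL F) * ψ a * (ψ w : PL F)⁻¹ = (ψ a : PL F)⁻¹ := by
        have := congrArg (fun x => (ψ x : PL F)) hw
        simpa only [_root_.map_mul, _root_.map_inv, _root_.Subgroup.coe_mul, _root_.InvMemClass.coe_inv] using this
      calc b⁻¹ * ψ w * ψ a * (b⁻¹ * ψ w)⁻¹ = b⁻¹ * ((ψ w : PL F) * ψ a * (ψ w : PL F)⁻¹) * b := by group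
        _ = g := by rw [k2, ← k]; group
  have h5 := cn_le p h2 hp'
  have h6 := card_T F
  have h7 : Nat.card H ≤ Nat.card A := hB ▸ card_le_of_le hBA
  have hd : 0 < Nat.gcd 2 (Fintype.card F - 1) := Nat.gcd_pos_of_pos_left _ (by norm_num)
  refine good_of_cc (ψ a).2 le_rfl le_rfl ?_
  generalize cn (ψ a : PL F) = c at h5
  generalize cc A (ψ a : PL F) = e at h4
  generalize Nat.gcd 2 (Fintype.card F - 1) = d at h5 h6 hc hd
  generalize Fintype.card F * (Fintype.card F - 1) = s at h6 hc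
  generalize Fintype.card F + 1 = q at h5 h6 hc
  refine Nat.le_of_mul_le_mul_right (c := (d * m) ^ 3) ?_ (by positivity)
  calc (c * e) ^ 3 * (d * m) ^ 3 = ((c * d) * (e * m)) ^ 3 := by ring
    _ ≤ (q * Nat.card H) ^ 3 := Nat.pow_le_pow_left (Nat.mul_le_mul h5 h4) 3
    _ = (q ^ 2 * Nat.card H) * (q * Nat.card H ^ 2) := by ring
    _ ≤ (d ^ 2 * m ^ 3 * s) * (q * Nat.card A ^ 2) :=
      Nat.mul_le_mul hc (Nat.mul_le_mul_left _ (Nat.pow_le_pow_left h7 2))
    _ = (s * q) * (d ^ 2 * m ^ 3 * Nat.card A ^ 2) := by ring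
    _ = _ := by rw [← h6]; ring

omit [IsSimpleGroup (PL F)] in
theorem good_equiv (p : ℕ) [Fact p.Prime] [CharP F p] {H : Type*} [Group H] (e : A ≃* H)
    {a w : H} (hw : w * a * w⁻¹ = a⁻¹) {m : ℕ} (hm : orderOf a = m) (h3 : 3 ≤ m) (hp : ¬ p ∣ m)
    (hc : (Fintype.card F + 1) ^ 2 * Nat.card H ≤
      Nat.gcd 2 (Fintype.card F - 1) ^ 2 * m ^ 3 * (Fintype.card F * (Fintype.card F - 1))) : Good A :=
  good_hom p e.symm.toMonoidHom e.symm.injective
    (by rw [MonoidHom.range_eq_top.2 (show Function.Surjective e.symm.toMonoidHom from e.symm.surjective)]; infer_instance)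
    hw hm h3 hp hc

theorem a4_comm : ∀ x y : alternatingGroup (Fin 4), x * x = 1 → y * y = 1 → x * y = y * x := by (set_option synthInstance.maxSize 9000 in open scoped Cfsg.Agent.Lib.FastPerm in decide +kernel)

theorem a4_ex : ∃ x : alternatingGroup (Fin 4), x ^ 2 = 1 ∧ x ≠ 1 := by decide +kernel

theorem good_A4 (h : MI A Γ) (e : A ≃* alternatingGroup (Fin 4)) : Good A := by
  obtain ⟨u, h2, h1⟩ := a4_ex
  have ho : orderOf (e.symm u : PL F) = 2 := by
    rw [Subgroup.orderOf_coe, MulEquiv.orderOf_eq, orderOf_eq_prime h2 h1]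
  by_cases hF : (2 : F) = 0
  · refine good_of_comm h (e.symm u).2 (fun z => by rw [z, orderOf_one] at ho; omega) (Or.inr hF) fun x hx hox => ?_
    have h3 : e ⟨x, hx⟩ * e ⟨x, hx⟩ = 1 := by
      rw [← pow_two, ← orderOf_dvd_iff_pow_eq_one, MulEquiv.orderOf_eq, ← Subgroup.orderOf_coe, hox, ho]
    have h4 : Commute (e ⟨x, hx⟩) u := a4_comm _ _ h3 (by rw [← pow_two, h2])
    have h6 := h4.map e.symm
    rw [MulEquiv.symm_apply_apply] at h6
    exact congrArg Subtype.val h6.eq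
  · have hodd := (PSL2Basic.two_ne_zero_iff_odd F).1 hF
    have h3 : cn (e.symm u : PL F) ≤ Fintype.card F + 1 := by
      rcases H853.Fx.card_cent_inv hodd ho with k | k
      · exact k.2.le.trans (by omega)
      · exact k.2.le
    have h4 : cc A (e.symm u : PL F) ≤ 3 := by
      rw [← H853.Fx.inv2_A4, ← H853.Fx.inv2_congr e]
      refine Nat.card_le_card_of_injective (fun g => (⟨⟨g.1, g.2.2⟩, ?_⟩ : {y : A // orderOf y = 2})) fun g g' k => ?_
      · obtain ⟨t, ht⟩ := isConj_iff.1 g.2.1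
        rw [← Subgroup.orderOf_coe]
        show orderOf g.1 = _
        rw [← ht]
        exact ((MulAut.conj t).orderOf_eq _).trans ho
      · exact Subtype.ext (congrArg (fun x => x.1.1) k)
    refine good_of_cc (e.symm u).2 h3 h4 ?_
    have h5 := card_T F
    have h6 : Nat.card A = 12 := by
      rw [Nat.card_congr e.toEquiv, Nat.card_eq_fintype_card]
      decide +kernel
    rw [gcd_odd hodd] at h5
    rw [h6]
    have hq : 1 < Fintype.card F := Fintype.one_lt_card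
    obtain ⟨r, hr⟩ := hodd
    obtain ⟨s, rfl⟩ : ∃ s, r = s + 1 := ⟨r - 1, by omega⟩
    rw [hr] at h5 ⊢
    rw [Nat.add_sub_cancel] at h5
    have h7 : Nat.card (PL F) = (2 * (s + 1) + 1) * (s + 1) * (2 * (s + 1) + 1 + 1) := by linarith only [h5]
    rw [h7]
    linarith only [Nat.zero_le (s ^ 3), _root_.sq_nonneg (↑s : ℤ), _root_.Nat.cast_nonneg (α := ℤ) (s)]

theorem s4_ex : ∃ a w : Equiv.Perm (Fin 4), w * a * w⁻¹ = a⁻¹ ∧ a ^ 4 = 1 ∧ a ^ 2 ≠ 1 := by (set_option synthInstance.maxSize 9000 in open scoped Cfsg.Agent.Lib.FastPerm in decide +kernel)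

theorem p_dvd (F : Type*) [Field F] [Fintype F] (p : ℕ) [Fact p.Prime] [CharP F p] : p ∣ Fintype.card F := by
  obtain ⟨n, -, hn⟩ := FiniteField.card F p
  rw [hn]
  exact dvd_pow_self p n.ne_zero

omit [IsSimpleGroup (PL F)] in
theorem good_S4 (p : ℕ) [Fact p.Prime] [CharP F p] (e : A ≃* Equiv.Perm (Fin 4)) : Good A := by
  have h1 := (Cfsg.Agent.S0803.result (F := F) rfl).1 ⟨A, ⟨e⟩⟩
  have hodd : Odd (Fintype.card F) := by
    rw [← Nat.not_even_iff_odd]
    rintro ⟨r, hr⟩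
    rw [hr, show (r + r) ^ 2 = 4 * r ^ 2 by ring] at h1
    omega
  obtain ⟨a, w, hw, h4, h2⟩ := s4_ex
  have hm : orderOf a = 4 := orderOf_eq_prime_pow (p := 2) (n := 1) h2 h4
  refine good_equiv p e hw hm (by norm_num) (fun k => ?_) ?_
  · have h5 : p = 2 := (Nat.prime_dvd_prime_iff_eq Fact.out Nat.prime_two).1
      ((Fact.out : p.Prime).dvd_of_dvd_pow (show p ∣ 2 ^ 2 from k))
    exact (Nat.not_even_iff_odd.2 hodd) (even_iff_two_dvd.2 (h5 ▸ p_dvd F p))
  · have h6 : Nat.card (Equiv.Perm (Fin 4)) = 24 := by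
      rw [Nat.card_eq_fintype_card]
      decide +kernel
    rw [gcd_odd hodd, h6]
    have hq : 1 < Fintype.card F := Fintype.one_lt_card
    obtain ⟨s, hs⟩ : ∃ s, Fintype.card F = s + 2 := ⟨Fintype.card F - 2, by omega⟩
    rw [hs, show s + 2 - 1 = s + 1 from rfl]
    nlinarith only []

theorem a5_five : ∃ a w : alternatingGroup (Fin 5), w * a * w⁻¹ = a⁻¹ ∧ a ^ 5 = 1 ∧ a ≠ 1 :=
  ⟨⟨c[0, 1, 2, 3, 4], Equiv.Perm.mem_alternatingGroup.2 (by decide)⟩,
    ⟨c[1, 4] * c[2, 3], Equiv.Perm.mem_alternatingGroup.2 (by decide)⟩, by decide +kernel⟩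

theorem a5_three : ∃ a w : alternatingGroup (Fin 5), w * a * w⁻¹ = a⁻¹ ∧ a ^ 3 = 1 ∧ a ≠ 1 :=
  ⟨⟨c[0, 1, 2], Equiv.Perm.mem_alternatingGroup.2 (by decide)⟩,
    ⟨c[1, 2] * c[3, 4], Equiv.Perm.mem_alternatingGroup.2 (by decide)⟩, by decide +kernel⟩

omit [IsSimpleGroup (PL F)] in
theorem good_A5 (p : ℕ) [Fact p.Prime] [CharP F p] (h4 : 4 ≤ Fintype.card F) (e : A ≃* alternatingGroup (Fin 5)) :
    Good A := by
  have h6 : Nat.card (alternatingGroup (Fin 5)) = 60 := by
    rw [Nat.card_eq_fintype_card]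
    (set_option synthInstance.maxSize 9000 in open scoped Cfsg.Agent.Lib.FastPerm in decide +kernel)
  by_cases h5 : p = 5
  · subst h5
    obtain ⟨a, w, hw, h3, h1⟩ := a5_three
    have : Fact (Nat.Prime 3) := ⟨Nat.prime_three⟩
    refine good_equiv 5 e hw (orderOf_eq_prime h3 h1) le_rfl (by norm_num) ?_
    have hodd : Odd (Fintype.card F) := by
      obtain ⟨n, -, hn⟩ := FiniteField.card F 5
      rw [hn]
      exact Odd.pow (by decide)
    have hq := Nat.le_of_dvd Fintype.card_pos (p_dvd F 5)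
    rw [gcd_odd hodd, h6]
    obtain ⟨s, hs⟩ : ∃ s, Fintype.card F = s + 5 := ⟨Fintype.card F - 5, by omega⟩
    rw [hs, show s + 5 - 1 = s + 4 from rfl]
    nlinarith only []
  · obtain ⟨a, w, hw, h3, h1⟩ := a5_five
    have : Fact (Nat.Prime 5) := ⟨Nat.prime_five⟩
    refine good_equiv p e hw (orderOf_eq_prime h3 h1) (by norm_num)
      (fun k => h5 ((Nat.prime_dvd_prime_iff_eq Fact.out Nat.prime_five).1 k)) ?_
    have hd : 1 ≤ Nat.gcd 2 (Fintype.card F - 1) := Nat.gcd_pos_of_pos_left _ (by norm_num)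
    refine le_trans ?_ (Nat.mul_le_mul_right _ (Nat.mul_le_mul_right _ (Nat.pow_le_pow_left hd 2)))
    rw [h6]
    obtain ⟨s, hs⟩ : ∃ s, Fintype.card F = s + 4 := ⟨Fintype.card F - 4, by omega⟩
    rw [hs, show s + 4 - 1 = s + 3 from rfl]
    nlinarith only []

theorem mono {x y : ℕ} (h1 : 1 ≤ y) (h : y ≤ x) : (x + 1) ^ 2 * (y * (y - 1)) ≤ (y + 1) ^ 2 * (x * (x - 1)) := by
  obtain ⟨y, rfl⟩ : ∃ z, y = z + 1 := ⟨y - 1, by omega⟩
  obtain ⟨c, rfl⟩ : ∃ c, x = y + 1 + c := ⟨x - (y + 1), by omega⟩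
  rw [Nat.add_sub_cancel, show y + 1 + c - 1 = y + c by omega]
  refine Nat.le.intro (k := c * (3 * (y + 1 + c) * (y + 1) + (y + 1 + c) + y)) ?_
  ring

omit [IsSimpleGroup (PL F)] in
/-- subfield subgroups -/
theorem good_sub (p : ℕ) [Fact p.Prime] [CharP F p] {K : Type*} [Field K] [Fintype K] {k : ℕ}
    (hk : Fintype.card K ^ k = Fintype.card F) (h3 : Fintype.card K ≠ 3) (ψ : PL K →* A) (hψ : Function.Injective ψ)
    (hn : ψ.range.Normal) : Good A := by
  have hq : 1 < Fintype.card F := Fintype.one_lt_card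
  have hq0 : 1 < Fintype.card K := Fintype.one_lt_card
  have hk0 : k ≠ 0 := by
    rintro rfl
    rw [pow_zero] at hk
    omega
  have hle : Fintype.card K ≤ Fintype.card F := hk ▸ Nat.le_self_pow hk0 _
  have hd : Nat.gcd 2 (Fintype.card K - 1) = Nat.gcd 2 (Fintype.card F - 1) ∧
      Nat.gcd 2 (Fintype.card K - 1) ∣ Fintype.card K + 1 ∧ 3 * Nat.gcd 2 (Fintype.card K - 1) ≤ Fintype.card K + 1 := by
    rcases Nat.even_or_odd (Fintype.card K) with h | h
    · rw [gcd_even h hq0.le, gcd_even (hk ▸ (Nat.even_pow.2 ⟨h, hk0⟩)) hq.le]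
      exact ⟨rfl, one_dvd _, by omega⟩
    · rw [gcd_odd h, gcd_odd (hk ▸ h.pow)]
      obtain ⟨r, hr⟩ := h
      exact ⟨rfl, ⟨r + 1, by omega⟩, by omega⟩
  obtain ⟨d1, ⟨m, hm⟩, d3⟩ := hd
  have hd : 0 < Nat.gcd 2 (Fintype.card K - 1) := Nat.gcd_pos_of_pos_left _ (by norm_num)
  obtain ⟨-, H, -, -, -, -, ⟨e⟩, -⟩ := PSLTorus.exists_psl_torus K
  have hm' : (Fintype.card K + 1) / Nat.gcd 2 (Fintype.card K - 1) = m := Nat.div_eq_of_eq_mul_right hd hm
  rw [hm'] at e
  have hm3 : 3 ≤ m := by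
    rw [hm, mul_comm 3] at d3
    exact Nat.le_of_mul_le_mul_left d3 hd
  have : NeZero m := ⟨by omega⟩
  refine good_hom p ψ hψ hn (a := e.symm (DihedralGroup.r 1)) (w := e.symm (DihedralGroup.sr 0)) ?_ (m := m) ?_ hm3 ?_ ?_
  · have h1 : (DihedralGroup.sr 0 * DihedralGroup.r 1 * (DihedralGroup.sr 0)⁻¹ : DihedralGroup m) =
        (DihedralGroup.r 1)⁻¹ := by simp
    have h2 := congrArg (fun x => (e.symm x : PL K)) h1
    simpa only [map_mul, map_inv, Subgroup.coe_mul, Subgroup.coe_inv] using h2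
  · rw [Subgroup.orderOf_coe, MulEquiv.orderOf_eq, DihedralGroup.orderOf_r_one]
  · intro h1
    have h2 : p ∣ Fintype.card K := (Fact.out : p.Prime).dvd_of_dvd_pow (hk ▸ p_dvd F p)
    have h4 : p ∣ Fintype.card K + 1 := hm ▸ h1.mul_left _
    exact (Fact.out : p.Prime).one_lt.ne' (Nat.dvd_one.1 ((Nat.dvd_add_right h2).1 h4))
  · have h1 := card_T K
    have h2 := mono hq0.le hle
    rw [← d1]
    refine Nat.le_of_mul_le_mul_right ?_ hd
    generalize Nat.gcd 2 (Fintype.card K - 1) = d at h1 hm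
    calc (Fintype.card F + 1) ^ 2 * Nat.card (PL K) * d
        = (Fintype.card F + 1) ^ 2 * (Fintype.card K * (Fintype.card K - 1)) * (Fintype.card K + 1) := by
          rw [mul_assoc, h1]; ring
      _ ≤ (Fintype.card K + 1) ^ 2 * (Fintype.card F * (Fintype.card F - 1)) * (Fintype.card K + 1) :=
          Nat.mul_le_mul_right _ h2
      _ = _ := by rw [hm]; ring

theorem normal_toPGL (K : Type*) [Field K] :
    (Matrix.ProjectiveSpecialLinearGroup.toPGL (n := Fin 2) (R := K)).range.Normal := by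
  have h1 : (Matrix.ProjectiveSpecialLinearGroup.toPGL (n := Fin 2) (R := K)).range =
      (Matrix.SpecialLinearGroup.toGL : SL2 K →* GL (Fin 2) K).range.map Matrix.ProjGenLinGroup.mk := by
    ext x
    constructor
    · rintro ⟨y, rfl⟩
      obtain ⟨Y, rfl⟩ := QuotientGroup.mk_surjective y
      exact ⟨_, ⟨Y, rfl⟩, rfl⟩
    · rintro ⟨_, ⟨Y, rfl⟩, rfl⟩
      exact ⟨QuotientGroup.mk Y, rfl⟩
  rw [h1, PSL2Basic.range_toGL]
  exact (MonoidHom.normal_ker _).map _ Matrix.ProjGenLinGroup.mk_surjective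

end Cfsg.Agent.N2.L2

namespace Cfsg.Agent.N2

open Cfsg.Agent.FP3 Cfsg.Agent.N2.L2

/-- **the row `PSL₂(q)`** -/
theorem as_psl2 (F : Type*) [Field F] [Fintype F] (h4 : 4 ≤ Fintype.card F) :
    ASRow (Matrix.ProjectiveSpecialLinearGroup (Fin 2) F) := by
  intro A Γ h
  have : IsSimpleGroup (PL F) :=
    Matrix.ProjectiveSpecialLinearGroup.rank_two_simple (by rw [Nat.card_eq_fintype_card]; omega)
  obtain ⟨p, hp⟩ := CharP.exists F
  have : Fact p.Prime := ⟨CharP.char_is_prime F p⟩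
  rcases H853.Fx.dickson (F := F) rfl p A with ⟨k, -, ⟨hc, -⟩ | ⟨⟨e⟩⟩⟩ | ⟨h1, P, hP⟩ | ⟨⟨e⟩⟩ | ⟨⟨e⟩⟩ | ⟨⟨e⟩⟩ |
    ⟨K, _, _, m, hm, ⟨⟨e⟩⟩ | ⟨⟨e⟩⟩⟩
  · exact good_ab h fun x hx y hy => congrArg Subtype.val (hc.isMulCommutative.is_comm.comm (⟨x, hx⟩ : A) ⟨y, hy⟩)
  · exact good_dih h e
  · exact good_bor p h h1 P hP
  · exact good_A4 h e
  · exact good_S4 p e
  · exact good_A5 p h4 e
  · by_cases h3 : Fintype.card K = 3
    · obtain ⟨e'⟩ := Cfsg.Agent.S0251.result h3
      exact good_A4 h (e.trans e')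
    · exact good_sub p hm h3 e.symm.toMonoidHom e.symm.injective (by
        rw [MonoidHom.range_eq_top.2 (show Function.Surjective e.symm.toMonoidHom from e.symm.surjective)]
        infer_instance)
  · by_cases h3 : Fintype.card K = 3
    · obtain ⟨e'⟩ := H281.Reg.pgl_three h3
      exact good_S4 p (e.trans e')
    · refine good_sub p hm h3 (e.symm.toMonoidHom.comp Matrix.ProjectiveSpecialLinearGroup.toPGL)
        (e.symm.injective.comp Matrix.ProjectiveSpecialLinearGroup.toPGL_injective) ?_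
      rw [MonoidHom.range_comp]
      exact (normal_toPGL K).map _ e.symm.surjective

/-- the family `PSL₂(q)`, `q ≥ 4` -/
def fL2 : Fam := fun T _ => ∃ (F : Type) (_ : Field F) (_ : Fintype F), 4 ≤ Fintype.card F ∧
  Nonempty (T ≃* Matrix.ProjectiveSpecialLinearGroup (Fin 2) F)

theorem row_L2 : Row fL2 := fun _ _ _ _ _ ⟨F, _, _, h4, ⟨e⟩⟩ => asRow_congr e.symm (as_psl2 F h4)

end Cfsg.Agent.N2
end

-- part: N2/Sp2/Mi
section
set_option linter.all false
open scoped Cfsg.Agent.FastGrp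

-- part: N2/Sp2/Ep
section
/-!
# N2 (S3519), sporadic groups: groups whose elements have prime power order (helper44)
-/

set_option autoImplicit false
set_option linter.unusedSectionVars false

namespace Cfsg.Agent.N2.Sp2

open Cfsg Subgroup

/-- every element has prime power order -/
def Ep (G : Type*) [Group G] : Prop :=
  ∀ (a : G) (p q : ℕ), p.Prime → q.Prime → p ∣ orderOf a → q ∣ orderOf a → p = q

/-- the number of elements of order divisible by `p` -/
noncomputable def np (G : Type*) [Group G] (p : ℕ) : ℕ := Nat.card {a : G // p ∣ orderOf a}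

variable {G : Type*} [Group G] [Finite G] {p q m : ℕ}

omit [Finite G] in
theorem Ep.sub (h : Ep G) (B : Subgroup G) : Ep B := fun a p q hp hq h1 h2 =>
  h a p q hp hq (by rwa [orderOf_coe]) (by rwa [orderOf_coe])

theorem Ep.comm (h : Ep G) {a b : G} (hab : Commute a b) (hp : p.Prime) (hq : q.Prime) (h1 : p ∣ orderOf a)
    (h2 : q ∣ orderOf b) : p = q := by
  by_contra hne
  have h3 := orderOf_pow_orderOf_div (orderOf_pos a).ne' h1
  have h4 := orderOf_pow_orderOf_div (orderOf_pos b).ne' h2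
  have h5 := (hab.pow_pow (orderOf a / p) (orderOf b / q)).orderOf_mul_eq_mul_orderOf_of_coprime
    (by rw [h3, h4]; exact (Nat.coprime_primes hp hq).2 hne)
  rw [h3, h4] at h5
  exact hne (h _ p q hp hq (h5 ▸ dvd_mul_right p q) (h5 ▸ dvd_mul_left q p))

theorem pgrp_of {C : Subgroup G} (h : ∀ c ∈ C, ∀ r : ℕ, r.Prime → r ∣ orderOf c → r = p) : IsPGroup p C := fun c =>
  ⟨_, by
    rw [← Nat.eq_prime_pow_of_unique_prime_dvd (orderOf_pos c).ne' fun hr hd => h c c.2 _ hr (by rwa [orderOf_coe]),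
      pow_orderOf_eq_one]⟩

theorem Ep.cent (h : Ep G) {a : G} (hp : p.Prime) (h1 : p ∣ orderOf a) : IsPGroup p (centralizer ({a} : Set G)) :=
  pgrp_of fun _ hc _ hr hd => (h.comm (mem_centralizer_singleton_iff.1 hc).symm hp hr h1 hd).symm

theorem dvd_ord (hp : p.Prime) {P : Subgroup G} (hP : IsPGroup p P) {x : G} (hx : x ∈ P) (h1 : x ≠ 1) :
    p ∣ orderOf x := by
  have := Fact.mk hp
  obtain ⟨k, hk⟩ := IsPGroup.iff_orderOf.1 hP ⟨x, hx⟩
  rw [orderOf_mk] at hk
  rw [hk]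
  exact dvd_pow_self p fun e => h1 (orderOf_eq_one_iff.1 (by rw [hk, e, pow_zero]))

/-- unions of classes -/
theorem dvd_card (X : G → Prop) (hX : ∀ x g, X x → X (g * x * g⁻¹)) (hm : m ∣ Nat.card G)
    (h : ∀ x, X x → (Nat.card (centralizer ({x} : Set G))).Coprime m) : m ∣ Nat.card {x // X x} := by
  have := Fintype.ofFinite (ConjClasses G)
  rw [← Nat.card_congr (Equiv.sigmaFiberEquiv fun x : {x // X x} => ConjClasses.mk x.1), Nat.card_sigma]
  refine Finset.dvd_sum fun c _ => ?_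
  rcases isEmpty_or_nonempty {x : {x // X x} // ConjClasses.mk x.1 = c} with e | ⟨⟨⟨x, hx⟩, rfl⟩⟩
  · simp
  · have h1 : Nat.card {y : {x // X x} // ConjClasses.mk y.1 = ConjClasses.mk x} = Nat.card {g : G // IsConj x g} :=
      Nat.card_congr ⟨fun y => ⟨y.1.1, (ConjClasses.mk_eq_mk_iff_isConj.1 y.2).symm⟩, fun g => ⟨⟨g.1, by
        obtain ⟨c, hc⟩ := isConj_iff.1 g.2
        exact hc ▸ hX x c hx⟩, ConjClasses.mk_eq_mk_iff_isConj.2 g.2.symm⟩, fun _ => rfl, fun _ => rfl⟩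
    rw [h1]
    exact (h x hx).symm.dvd_of_dvd_mul_right ((TAB.Eng.card_class x).symm ▸ hm)

theorem cop_of (hp : p.Prime) {C : Subgroup G} (hC : IsPGroup p C) (hm : ¬ p ∣ m) : (Nat.card C).Coprime m := by
  have := Fact.mk hp
  obtain ⟨k, hk⟩ := IsPGroup.iff_card.1 hC
  exact hk ▸ (hp.coprime_iff_not_dvd.2 hm).pow_left k

theorem Ep.dvd (h : Ep G) (hp : p.Prime) (X : G → Prop) (hX : ∀ x g, X x → X (g * x * g⁻¹)) (hm : m ∣ Nat.card G)
    (hpm : ¬ p ∣ m) (h1 : ∀ x, X x → p ∣ orderOf x) : m ∣ Nat.card {x // X x} :=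
  dvd_card X hX hm fun x hx => cop_of hp (h.cent hp (h1 x hx)) hpm

omit [Finite G] in
theorem ord_conj (x g : G) : orderOf (g * x * g⁻¹) = orderOf x := (MulAut.conj g).orderOf_eq x

theorem card_ne : Nat.card {x : G // x ≠ 1} + 1 = Nat.card G := by
  classical
  have := Fintype.ofFinite G
  rw [Nat.card_eq_fintype_card, Nat.card_eq_fintype_card, Fintype.card_subtype_compl, Fintype.card_subtype_eq,
    Nat.sub_add_cancel Fintype.card_pos]

theorem np_lt (hp : p.Prime) : np G p < Nat.card G := by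
  rw [← card_ne, Nat.lt_succ_iff]
  exact Nat.card_le_card_of_injective (β := {x : G // x ≠ 1}) (fun x => ⟨x.1, fun e => hp.one_lt.ne'
    (Nat.dvd_one.1 (by simpa [e] using x.2))⟩) fun _ _ e => Subtype.ext (congrArg Subtype.val e :)

/-- **the number of `p`-elements** -/
theorem Ep.np_eq (h : Ep G) (hp : p.Prime) {a k : ℕ} (hn : Nat.card G = p ^ a * m) (hpm : ¬ p ∣ m) (hk : k < p ^ a)
    (hk' : p ^ a ∣ k * m + 1) : np G p = k * m := by
  classical
  obtain ⟨j, hj⟩ := h.dvd hp (fun x => p ∣ orderOf x) (fun x g hx => by rwa [ord_conj]) (hn ▸ dvd_mul_left m _) hpm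
    fun _ hx => hx
  have h1 : p ^ a ∣ Nat.card {x : G // x ≠ 1 ∧ ¬ p ∣ orderOf x} := by
    refine dvd_card _ (fun x g hx => ⟨fun e => hx.1 (by simpa only [_root_.conj_eq_one_iff] using e), by rw [ord_conj]; exact hx.2⟩)
      (hn ▸ dvd_mul_right _ m) fun x hx => ?_
    obtain ⟨r, hr, h2⟩ := Nat.exists_prime_and_dvd (mt orderOf_eq_one_iff.1 hx.1)
    exact cop_of hr (h.cent hr h2) fun h3 =>
      hx.2 ((Nat.prime_dvd_prime_iff_eq hr hp).1 (hr.dvd_of_dvd_pow h3) ▸ h2)
  have h2 : np G p + Nat.card {x : G // x ≠ 1 ∧ ¬ p ∣ orderOf x} + 1 = Nat.card G := by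
    have := Fintype.ofFinite G
    rw [← card_ne (G := G), np, Nat.card_eq_fintype_card, Nat.card_eq_fintype_card, Nat.card_eq_fintype_card,
      Fintype.card_subtype, Fintype.card_subtype, Fintype.card_subtype,
      ← Finset.card_filter_add_card_filter_not (s := Finset.univ.filter fun x : G => x ≠ 1) fun x => p ∣ orderOf x,
      Finset.filter_filter, Finset.filter_filter]
    congr 3
    exact Finset.filter_congr fun x _ => ⟨fun h3 => ⟨fun e => hp.one_lt.ne' (Nat.dvd_one.1 (by simpa [e] using h3)), h3⟩,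
      fun h3 => h3.2⟩
  have h3 : np G p = m * j := hj
  have h4 : p ^ a ∣ j * m + 1 := by
    have h5 : p ^ a ∣ Nat.card {x : G // x ≠ 1 ∧ ¬ p ∣ orderOf x} + (j * m + 1) := by
      rw [add_comm, add_right_comm, mul_comm j, ← h3, h2, hn]
      exact dvd_mul_right _ _
    exact (Nat.dvd_add_right h1).1 h5
  have h5 : j < p ^ a := by
    have h6 := np_lt (G := G) hp
    rw [h3, hn, mul_comm] at h6
    exact Nat.lt_of_mul_lt_mul_right h6
  have h6 : j ≡ k [MOD p ^ a] := by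
    refine Nat.ModEq.cancel_right_of_coprime ((hp.coprime_iff_not_dvd.2 hpm).pow_left a) (Nat.ModEq.add_right_cancel' 1 ?_)
    exact ((Nat.modEq_zero_iff_dvd).2 h4).trans ((Nat.modEq_zero_iff_dvd).2 hk').symm
  rw [h3, Nat.ModEq.eq_of_lt_of_lt h6 h5 hk, mul_comm]

/-- the sets of `p`-elements are disjoint -/
theorem Ep.sum_lt (h : Ep G) (L : List ℕ) (hL : ∀ p ∈ L, p.Prime) (hn : L.Nodup) :
    (L.map (np G)).sum < Nat.card G := by
  classical
  have := Fintype.ofFinite G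
  rw [← card_ne, Nat.lt_succ_iff, ← List.sum_toFinset _ hn, Nat.card_eq_fintype_card, Fintype.card_subtype]
  have h1 : ∀ p ∈ L.toFinset, np G p = (Finset.univ.filter fun x : G => p ∣ orderOf x).card := fun p _ => by
    rw [np, Nat.card_eq_fintype_card, Fintype.card_subtype]
  rw [Finset.sum_congr rfl h1, ← Finset.card_biUnion]
  · refine Finset.card_le_card fun x hx => ?_
    obtain ⟨p, hp, h2⟩ := Finset.mem_biUnion.1 hx
    refine Finset.mem_filter.2 ⟨Finset.mem_univ _, fun e => (hL p (List.mem_toFinset.1 hp)).one_lt.ne' ?_⟩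
    simpa only [e, _root_.Finset.mem_filter, _root_.Finset.mem_univ, _root_.orderOf_one, _root_.Nat.dvd_one, _root_.true_and] using h2
  · intro p hp q hq hne
    refine Finset.disjoint_left.2 fun x h2 h3 => hne ?_
    exact h x p q (hL p (List.mem_toFinset.1 hp)) (hL q (List.mem_toFinset.1 hq)) (Finset.mem_filter.1 h2).2
      (Finset.mem_filter.1 h3).2

theorem card_ne' (Q : Subgroup G) : Nat.card {x : G // x ∈ Q ∧ x ≠ 1} + 1 = Nat.card Q := by
  rw [← card_ne (G := Q)]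
  congr 1
  exact Nat.card_congr ⟨fun x => ⟨⟨x.1, x.2.1⟩, fun e => x.2.2 (congrArg Subtype.val e)⟩,
    fun x => ⟨x.1.1, x.1.2, fun e => x.2 (Subtype.ext e)⟩, fun _ => rfl, fun _ => rfl⟩

variable [hp : Fact p.Prime]

theorem exists_syl (h : Ep G) {x : G} (hx : p ∣ orderOf x) : ∃ P : Sylow p G, centralizer {x} ≤ (P : Subgroup G) :=
  (h.cent hp.1 hx).exists_le_sylow

theorem card_le_np (P : Sylow p G) : Nat.card P ≤ np G p + 1 := by
  rw [← card_ne' (P : Subgroup G), Nat.succ_le_succ_iff]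
  exact Nat.card_le_card_of_injective (β := {a : G // p ∣ orderOf a})
    (fun x => ⟨x.1, dvd_ord hp.1 P.isPGroup' x.2.1 x.2.2⟩) fun _ _ e => Subtype.ext (congrArg Subtype.val e :)

/-- few `p`-elements -/
theorem normal_of_np (P : Sylow p G) (h : np G p + 1 ≤ Nat.card P) : (P : Subgroup G).Normal := by
  rw [← card_ne' (P : Subgroup G), Nat.succ_le_succ_iff] at h
  have h1 := Function.Injective.bijective_of_nat_card_le (β := {a : G // p ∣ orderOf a})
    (f := fun x : {x : G // x ∈ (P : Subgroup G) ∧ x ≠ 1} => ⟨x.1, dvd_ord hp.1 P.isPGroup' x.2.1 x.2.2⟩)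
    (fun _ _ e => Subtype.ext (congrArg Subtype.val e :)) h
  refine ⟨fun x hx g => ?_⟩
  by_cases h2 : x = 1
  · simp [h2]
  · obtain ⟨y, hy⟩ := h1.2 ⟨g * x * g⁻¹, by rw [ord_conj]; exact dvd_ord hp.1 P.isPGroup' hx h2⟩
    have h3 : y.1 = g * x * g⁻¹ := congrArg Subtype.val hy
    exact h3 ▸ y.2.1

theorem np_of_normal (h : Ep G) (P : Sylow p G) [(P : Subgroup G).Normal] : np G p + 1 = Nat.card P := by
  refine le_antisymm ?_ (card_le_np P)
  rw [← card_ne' (P : Subgroup G), Nat.succ_le_succ_iff]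
  have := Sylow.unique_of_normal P inferInstance
  refine Nat.card_le_card_of_injective (β := {x : G // x ∈ (P : Subgroup G) ∧ x ≠ 1}) (fun x => ⟨x.1, ?_, fun e =>
    hp.1.one_lt.ne' (Nat.dvd_one.1 (by simpa [e] using x.2))⟩) fun _ _ e => Subtype.ext (congrArg Subtype.val e :)
  obtain ⟨Q, hQ⟩ := exists_syl h x.2
  exact Subsingleton.elim Q P ▸ hQ (mem_centralizer_singleton_iff.2 rfl)

/-- **abelian Sylow subgroups meet trivially** -/
theorem Ep.np_ti (h : Ep G) (P : Sylow p G) (hP : IsMulCommutative P) :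
    np G p = (normalizer (P : Set G)).index * (Nat.card P - 1) := by
  have h1 : ∀ (Q : Sylow p G) {x : G}, x ∈ (Q : Subgroup G) → p ∣ orderOf x → centralizer {x} = (Q : Subgroup G) := by
    intro Q x hx h2
    refine Q.is_maximal' (h.cent hp.1 h2) fun y hy => mem_centralizer_singleton_iff.2 ?_
    have h3 := hP.is_comm.comm ((Q.equiv P) ⟨y, hy⟩) ((Q.equiv P) ⟨x, hx⟩)
    rw [← map_mul, ← map_mul] at h3
    exact congrArg Subtype.val ((Q.equiv P).injective h3)
  choose f hf using fun x : {a : G // p ∣ orderOf a} => exists_syl h x.2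
  rw [← P.card_eq_index_normalizer]
  refine card_fib f _ fun Q => ?_
  rw [← Nat.card_congr (Q.equiv P).toEquiv, ← card_ne' (Q : Subgroup G), Nat.add_sub_cancel]
  refine Nat.card_congr ⟨fun x => ⟨x.1.1, (congrArg Sylow.toSubgroup x.2).le
    (hf x.1 (mem_centralizer_singleton_iff.2 rfl)), fun e =>
    hp.1.one_lt.ne' (Nat.dvd_one.1 (by simpa [e] using x.1.2))⟩, fun x => ⟨⟨x.1, dvd_ord hp.1 Q.isPGroup' x.2.1 x.2.2⟩,
      Sylow.ext ?_⟩, fun _ => rfl, fun _ => rfl⟩
  have h2 := dvd_ord hp.1 Q.isPGroup' x.2.1 x.2.2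
  exact Q.is_maximal' (f _).isPGroup' ((h1 Q x.2.1 h2).ge.trans (hf ⟨x.1, h2⟩))

section loc

variable {Q : Subgroup G} [Q.Normal]

/-- the `p'`-part divides `|Q| - 1` -/
theorem Ep.dvd_loc (h : Ep G) (hQ : IsPGroup p Q) (hm : m ∣ Nat.card G) (hpm : ¬ p ∣ m) : m ∣ Nat.card Q - 1 := by
  rw [← card_ne' Q, Nat.add_sub_cancel]
  exact h.dvd hp.1 _ (fun x g hx => ⟨Normal.conj_mem inferInstance x hx.1 g, fun e => hx.2 (by simpa only [_root_.conj_eq_one_iff] using e)⟩) hm hpm
    fun x hx => dvd_ord hp.1 hQ hx.1 hx.2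

omit [Q.Normal] in
theorem Ep.cent_loc (h : Ep G) (hQ : IsPGroup p Q) (h0 : Q ≠ ⊥) : IsPGroup p (centralizer (Q : Set G)) := by
  obtain ⟨⟨x, hx⟩, h1⟩ := ne_bot_iff_exists_ne_one.1 h0
  exact (h.cent hp.1 (dvd_ord hp.1 hQ hx fun e => h1 (Subtype.ext e))).to_le
    (centralizer_le (Set.singleton_subset_iff.2 hx))

omit [Q.Normal] in
theorem Ep.fpf (h : Ep G) (hQ : IsPGroup p Q) {a : G} (hq : q.Prime) (hne : q ≠ p) (ha : q ∣ orderOf a) {x : G}
    (hx : x ∈ Q) (hc : Commute a x) : x = 1 :=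
  by_contra fun e => hne (h.comm hc hq hp.1 ha (dvd_ord hp.1 hQ hx e))

/-- the other Sylow subgroups of odd order are cyclic -/
theorem Ep.cyc (h : Ep G) (hQ : IsPGroup p Q) (h0 : Q ≠ ⊥) [hq : Fact q.Prime] (hne : q ≠ p) (h2 : q ≠ 2)
    (R : Sylow q G) : ∃ a : G, orderOf a = Nat.card R := by
  have h1 := Solvable.FpfPGroup.unique_subgroup_of_fpf (R : Subgroup G) Q h0 (by rw [normalizer_eq_top]; exact le_top)
    (fun a ha h3 => eq_bot_iff.2 fun x hx => h.fpf hQ hq.1 hne (dvd_ord hq.1 R.isPGroup' ha h3) hx.1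
      (mem_centralizer_singleton_iff.1 hx.2).symm) hq.1 R.isPGroup' (R : Subgroup G).subtype
    (R : Subgroup G).subtype_injective fun x => x.2
  obtain ⟨a, ha⟩ := ((S0016.result q R.isPGroup' h1).resolve_right fun h3 => h2 h3.1).exists_ofOrder_eq_natCard
  exact ⟨a, by rw [orderOf_coe, ha]⟩

/-- an involution inverts `Q` -/
theorem Ep.inv (h : Ep G) (hQ : IsPGroup p Q) (h2 : p ≠ 2) {u : G} (hu : orderOf u = 2) {x : G} (hx : x ∈ Q) :
    u * x * u⁻¹ = x⁻¹ := by
  have h1 : u * u = 1 := by rw [← pow_two, ← hu, pow_orderOf_eq_one]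
  have h3 : MonoidHom.FixedPointFree (MulAut.conjNormal (H := Q) u) := fun y hy => Subtype.ext
    (h.fpf hQ Nat.prime_two h2.symm (hu ▸ dvd_rfl) y.2 (mul_inv_eq_iff_eq_mul.1 (congrArg Subtype.val hy :)))
  have h4 := h3.coe_eq_inv_of_involutive fun y => by
    rw [← MulAut.mul_apply, ← map_mul, h1, map_one, MulAut.one_apply]
  exact congrArg Subtype.val (congrFun h4 ⟨x, hx⟩)

/-- the elements of odd order centralise `Q` -/
theorem Ep.odd (h : Ep G) (hQ : IsPGroup p Q) (h2 : p ≠ 2) (h3 : 2 ∣ Nat.card G) {g : G} (hg : ¬ 2 ∣ orderOf g) :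
    g ∈ centralizer (Q : Set G) := by
  obtain ⟨u, hu⟩ := exists_prime_orderOf_dvd_card' 2 h3
  let φ : G →* MulAut Q := MulAut.conjNormal
  have h4 : ∀ x : Q, φ u x = x⁻¹ := fun x => Subtype.ext (h.inv hQ h2 hu x.2)
  have h5 : Commute (φ u) (φ g) := MulEquiv.ext fun x => by
    rw [MulAut.mul_apply, MulAut.mul_apply, h4, h4, map_inv]
  have h6 : φ g = 1 := by
    by_contra h6
    obtain ⟨r, hr, h7⟩ := Nat.exists_prime_and_dvd (mt orderOf_eq_one_iff.1 h6)
    have h8 : r ≠ 2 := fun e => hg (e ▸ h7.trans (orderOf_map_dvd φ g))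
    have h9 : orderOf (φ u) = 2 := by
      refine ((Nat.dvd_prime Nat.prime_two).1 (hu ▸ orderOf_map_dvd φ u)).resolve_left fun e => h6 (MulEquiv.ext fun x => ?_)
      have h10 : x = 1 := Subtype.ext (h.fpf hQ Nat.prime_two h2.symm (hu ▸ dvd_rfl) x.2 (mul_inv_eq_iff_eq_mul.1
        (congrArg Subtype.val (MulEquiv.congr_fun (orderOf_eq_one_iff.1 e) x) :)))
      rw [h10, map_one, map_one]
    have h10 := h5.orderOf_mul_eq_mul_orderOf_of_coprime (by
      rw [h9]
      exact Nat.prime_two.coprime_iff_not_dvd.2 fun e => hg (e.trans (orderOf_map_dvd φ g)))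
    have h11 := orderOf_map_dvd φ (u * g)
    rw [map_mul, h10, h9] at h11
    exact h8 (h _ r 2 hr Nat.prime_two ((h7.mul_left 2).trans h11) ((dvd_mul_right 2 _).trans h11))
  exact mem_centralizer_iff.2 fun x hx =>
    (mul_inv_eq_iff_eq_mul.1 (congrArg Subtype.val (MulEquiv.congr_fun h6 ⟨x, hx⟩) :)).symm

theorem Ep.odd_prime (h : Ep G) (hQ : IsPGroup p Q) (h0 : Q ≠ ⊥) (h2 : p ≠ 2) (h3 : 2 ∣ Nat.card G) (hq : q.Prime)
    (h4 : q ∣ Nat.card G) : q = 2 ∨ q = p := by
  have := Fact.mk hq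
  obtain ⟨g, hg⟩ := exists_prime_orderOf_dvd_card' q h4
  refine or_iff_not_imp_left.2 fun h5 => ?_
  have h6 := dvd_ord hp.1 (h.cent_loc hQ h0) (h.odd hQ h2 h3 (g := g) fun e =>
    h5 ((Nat.prime_dvd_prime_iff_eq Nat.prime_two hq).1 (hg ▸ e)).symm) fun e => hq.one_lt.ne' (by simpa [e] using hg.symm)
  exact ((Nat.prime_dvd_prime_iff_eq hp.1 hq).1 (hg ▸ h6)).symm

theorem syl_odd (h2 : p ≠ 2) (P : Sylow p G) {x : G} (hx : x ∈ (P : Subgroup G)) : ¬ 2 ∣ orderOf x := fun e => by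
  obtain ⟨k, hk⟩ := IsPGroup.iff_orderOf.1 P.isPGroup' ⟨x, hx⟩
  rw [orderOf_mk] at hk
  exact h2 ((Nat.prime_dvd_prime_iff_eq Nat.prime_two hp.1).1 (Nat.prime_two.dvd_of_dvd_pow (hk ▸ e))).symm

theorem Ep.normal (h : Ep G) (hQ : IsPGroup p Q) (h0 : Q ≠ ⊥) (h2 : p ≠ 2) (h3 : 2 ∣ Nat.card G) (P : Sylow p G) :
    (P : Subgroup G).Normal := by
  rw [← P.is_maximal' (h.cent_loc hQ h0) fun x hx => h.odd hQ h2 h3 (syl_odd h2 P hx)]
  infer_instance

theorem Ep.ab (h : Ep G) (h2 : p ≠ 2) (h3 : 2 ∣ Nat.card G) (P : Sylow p G) [(P : Subgroup G).Normal] :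
    IsMulCommutative P :=
  ⟨⟨fun a b => Subtype.ext (mem_centralizer_iff.1 (h.odd P.isPGroup' h2 h3 (syl_odd h2 P b.2)) a a.2)⟩⟩

end loc

theorem ab_of_sq (P : Sylow p G) (h : Nat.card P ∣ p ^ 2) : IsMulCommutative P := by
  obtain ⟨k, hk, e⟩ := (Nat.dvd_prime_pow hp.1).1 h
  rcases Nat.lt_or_ge k 2 with h1 | h1
  · have : IsCyclic P := isCyclic_of_card_dvd_prime (p := p) (e ▸ (pow_dvd_pow p (Nat.lt_succ_iff.1 h1)).trans (by simp))
    infer_instance
  · exact ⟨⟨(IsPGroup.commGroupOfCardEqPrimeSq (le_antisymm hk h1 ▸ e)).mul_comm⟩⟩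

omit hp [Finite G] in
theorem ab_of_two (P : Subgroup G) (h : ∀ x ∈ P, x * x = 1) : IsMulCommutative P :=
  ⟨⟨fun a b => Subtype.ext (by
    have h1 := fun x (hx : x ∈ P) => eq_inv_of_mul_eq_one_left (h x hx)
    show (a : G) * b = b * a
    rw [h1 _ (P.mul_mem a.2 b.2), mul_inv_rev, ← h1 _ a.2, ← h1 _ b.2])⟩⟩

omit hp in
/-- two primes -/
theorem exists_core [Nontrivial G] (hp : p.Prime) (hq : q.Prime) {a b : ℕ} (hn : Nat.card G ∣ p ^ a * q ^ b) :
    ∃ r, r.Prime ∧ r ∣ Nat.card G ∧ pCore r G ≠ ⊥ := by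
  obtain ⟨x, y, hx, hy, e⟩ := Nat.dvd_mul.1 hn
  obtain ⟨i, -, rfl⟩ := (Nat.dvd_prime_pow hp).1 hx
  obtain ⟨j, -, rfl⟩ := (Nat.dvd_prime_pow hq).1 hy
  obtain ⟨r, hr, h⟩ := SB.Red.exists_pCore_ne_bot (S0144.result p q i j hp hq e.symm)
  obtain ⟨⟨x, hx⟩, h1⟩ := ne_bot_iff_exists_ne_one.1 h
  exact ⟨r, hr, (dvd_ord hr (Lib.Cores.pCore_isPGroup r) hx fun e => h1 (Subtype.ext e)).trans
    (orderOf_dvd_natCard x), h⟩

end Cfsg.Agent.N2.Sp2
end

-- part: N2/Sp2/Mi
section
/-!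
# N2 (S3519), sporadic groups: Sylow subgroups of a maximal invariant subgroup (helper44)
-/

set_option autoImplicit false
set_option linter.unusedSectionVars false

namespace Cfsg.Agent.N2.Sp2

open Cfsg Cfsg.Agent.FP3 Subgroup
open scoped Pointwise

section gen

variable {T : Type*} [Group T] [Finite T] {A : Subgroup T} {p : ℕ} [hp : Fact p.Prime]

omit hp in
theorem char_map {S : Type*} [Group S] [Finite S] (ι : S →* T) (hι : Function.Injective ι) (W : Subgroup S)
    [hW : W.Characteristic] (φ : T →* T) (hφ : Function.Injective φ) (h : ∀ s, φ (ι s) ∈ ι.range) {w : S} (hw : w ∈ W) :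
    φ (ι w) ∈ W.map ι := by
  let f : S →* S := (MonoidHom.ofInjective hι).symm.toMonoidHom.comp ((φ.comp ι).codRestrict ι.range h)
  have h1 : ∀ s, ι (f s) = φ (ι s) := fun s => MonoidHom.apply_ofInjective_symm hι _
  have h2 : Function.Injective f := fun a b e => hι (hφ (by rw [← h1, e, h1]))
  exact ⟨f w, characteristic_iff_le_comap.1 hW (MulEquiv.ofBijective f (Finite.injective_iff_bijective.1 h2)) hw, h1 w⟩

/-- the inclusion of a Sylow subgroup of `A` -/
def inc (P : Sylow p A) : P →* T := A.subtype.comp (P : Subgroup A).subtype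

theorem inc_inj (P : Sylow p A) : Function.Injective (inc P) :=
  A.subtype_injective.comp (P : Subgroup A).subtype_injective

theorem mem_inc {P : Sylow p A} {x : T} : x ∈ (inc P).range ↔ ∃ h : x ∈ A, (⟨x, h⟩ : A) ∈ (P : Subgroup A) :=
  ⟨by rintro ⟨s, rfl⟩; exact ⟨s.1.2, s.2⟩, fun ⟨h, h'⟩ => ⟨⟨⟨x, h⟩, h'⟩, rfl⟩⟩

theorem card_inc (P : Sylow p A) : Nat.card (inc P).range = Nat.card P :=
  (Nat.card_congr (MonoidHom.ofInjective (inc_inj P)).toEquiv).symm

theorem pg_inc (P : Sylow p A) : IsPGroup p (inc P).range :=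
  P.isPGroup'.of_equiv (MonoidHom.ofInjective (inc_inj P))

theorem not_dvd_of_norm (P : Sylow p A) (hN : normalizer ((inc P).range : Set T) ≤ A) : ¬ p ∣ A.index := by
  intro h
  obtain ⟨n, hn⟩ := IsPGroup.iff_card.1 P.isPGroup'
  have h1 : p ^ (n + 1) ∣ Nat.card T := by
    rw [← A.card_mul_index, pow_succ]
    exact Nat.mul_dvd_mul (hn ▸ card_subgroup_dvd_card _) h
  have h2 := (Sylow.prime_pow_dvd_card_normalizer h1 ((card_inc P).trans hn)).trans (card_dvd_of_le hN)
  rw [← (P : Subgroup A).card_mul_index, hn, pow_succ] at h2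
  exact P.not_dvd_index (Nat.dvd_of_mul_dvd_mul_left (pow_pos hp.1.pos n) h2)

theorem card_syl {G : Type*} [Group G] [Finite G] (S : Sylow p G) {a m : ℕ} (h : Nat.card G = p ^ a * m)
    (hm : ¬ p ∣ m) : Nat.card S = p ^ a := by
  have h0 : m ≠ 0 := fun e => hm (e ▸ dvd_zero p)
  rw [S.card_eq_multiplicity, h, Nat.factorization_mul (pow_ne_zero a hp.1.ne_zero) h0, Finsupp.add_apply,
    Nat.factorization_eq_zero_of_not_dvd hm, hp.1.factorization_pow, Finsupp.single_eq_same, add_zero]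

/-- powers of the `p`-elements are conjugate into `A` -/
theorem pow_into (P : Sylow p A) {F u d : ℕ} (hT : Nat.card T = p ^ F * u) (hu : ¬ p ∣ u)
    (hd : Nat.card P * d = p ^ F) {g : T} (hg : orderOf g ∣ p ^ F) : ∃ t, t * g ^ d * t⁻¹ ∈ A := by
  obtain ⟨S, hS⟩ := (pg_inc P).exists_le_sylow
  have h1 : IsPGroup p (zpowers g) := by
    obtain ⟨k, -, hk⟩ := (Nat.dvd_prime_pow hp.1).1 hg
    exact IsPGroup.of_card (by rw [Nat.card_zpowers, hk])
  obtain ⟨S', hS'⟩ := h1.exists_le_sylow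
  obtain ⟨t, rfl⟩ := MulAction.exists_smul_eq T S' S
  have h2 : t * g * t⁻¹ ∈ ((t • S' : Sylow p T) : Subgroup T) := ⟨g, hS' (mem_zpowers g), rfl⟩
  have h3 : (inc P).range.relIndex (t • S' : Sylow p T) = d := by
    have h4 := ((inc P).range.subgroupOf (t • S' : Sylow p T)).card_mul_index
    rw [Nat.card_congr (subgroupOfEquivOfLe hS).toEquiv, card_inc, card_syl _ hT hu, ← hd] at h4
    exact Nat.eq_of_mul_eq_mul_left Nat.card_pos h4
  have h4 := relIndex_le_of_le_right (H := (inc P).range) (zpowers_le.2 h2) index_ne_zero_of_finite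
  obtain ⟨i, -, hi⟩ := (Nat.dvd_prime_pow hp.1).1 (hd ▸ dvd_mul_left d _ : d ∣ p ^ F)
  have h5 := ((inc P).range.subgroupOf (zpowers (t * g * t⁻¹))).index_dvd_card
  rw [Nat.card_zpowers, ord_conj] at h5
  obtain ⟨j, -, hj⟩ := (Nat.dvd_prime_pow hp.1).1 (h5.trans hg)
  have h6 : (inc P).range.relIndex (zpowers (t * g * t⁻¹)) = p ^ j := hj
  rw [h3, h6, hi, Nat.pow_le_pow_iff_right hp.1.one_lt] at h4
  have h7 := ((inc P).range.subgroupOf (zpowers (t * g * t⁻¹))).pow_index_mem ⟨_, mem_zpowers _⟩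
  rw [hj] at h7
  obtain ⟨c, hc⟩ := pow_dvd_pow p h4
  refine ⟨t, ?_⟩
  rw [← conj_pow, hi, hc, pow_mul]
  exact A.pow_mem (mem_inc.1 h7).1 c

/-- **Sims** -/
theorem sims {M : Type*} [Group M] [Finite M] {H : Subgroup M} (hc : IsCoatom H) (h0 : H.normalCore = ⊥) {b : ℕ}
    (hH : Nat.card H = 2 ^ b * 3) (h2 : 2 ∣ H.index) : b ≤ 4 := by
  have : FaithfulSMul M (M ⧸ H) := ⟨fun {x y} e => by
    have h1 : Function.Injective (MulAction.toPermHom M (M ⧸ H)) := by
      rw [← MonoidHom.ker_eq_bot_iff, ← normalCore_eq_ker, h0]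
    exact h1 (Equiv.ext e)⟩
  have : Nontrivial (M ⧸ H) := Finite.one_lt_card_iff_nontrivial.1 (one_lt_index_of_ne_top hc.1)
  have hs := MulAction.stabilizer_quotient H
  have hprim := (MulAction.isCoatom_stabilizer_iff_preprimitive M ((1 : M) : M ⧸ H)).1 (hs.symm ▸ hc)
  obtain ⟨P⟩ : Nonempty (Sylow 2 H) := inferInstance
  obtain ⟨y, hy, hy'⟩ := SetLike.not_le_iff_exists.1 fun h => not_dvd_of_norm P h h2
  have h3 : (P : Subgroup H) ≤ MulAction.stabilizer H (y : M ⧸ H) := fun x hx => by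
    refine (smul_mk_iff H x y).2 (mem_inc (P := P).1 ?_).1
    have := (mem_normalizer_iff.1 (inv_mem hy) x).1 (mem_inc.2 ⟨x.2, hx⟩)
    rwa [inv_inv] at this
  have h4 : (P : Subgroup H).index = 3 := by
    have h5 := (P : Subgroup H).card_mul_index
    rw [card_syl P hH (by decide), hH] at h5
    exact Nat.eq_of_mul_eq_mul_left (by positivity) h5
  rcases (Nat.dvd_prime Nat.prime_three).1 (h4 ▸ index_dvd_of_le h3) with h5 | h5
  · have h6 := (S3683.result hprim ((1 : M) : M ⧸ H) (y : M ⧸ H) (fun e => hy' (by simpa using QuotientGroup.eq.1 e))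
      fun g hg => (index_eq_one.1 h5).ge (mem_top (⟨g, hs.le hg⟩ : H))).1
    rw [hs.symm.trans h6, card_bot] at hH
    omega
  · obtain ⟨k, hk, e⟩ := S3385.result hprim ((1 : M) : M ⧸ H) (y : M ⧸ H) (by
      rw [hs, Nat.card_coe_set_eq]
      exact (MulAction.index_stabilizer H (y : M ⧸ H)).symm.trans h5)
    rw [hs, hH] at e
    exact Nat.pow_right_injective le_rfl (Nat.eq_of_mul_eq_mul_right three_pos e) ▸ hk

end gen

variable {T : Type} [Group T] [Finite T] [IsSimpleGroup T] {A : Subgroup T} {Γ : Subgroup (MulAut T)} {p : ℕ}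
  [hp : Fact p.Prime]

theorem norm_char (h : MI A Γ) (P : Sylow p A) (W : Subgroup P) [W.Characteristic] (h0 : W ≠ ⊥)
    (hN : (W.map (P : Subgroup A).subtype).Normal) : normalizer ((inc P).range : Set T) ≤ A := by
  have h1 : Inv Γ (W.map (inc P)) := by
    rintro σ hσ _ ⟨w, hw, rfl⟩
    obtain ⟨a, ha⟩ := MulAction.exists_smul_eq A P (resAut h σ hσ • P)
    obtain ⟨v, hv, e⟩ := char_map (inc P) (inc_inj P) W ((MulAut.conj (a : T)⁻¹ * σ : MulAut T) : T →* T)
      (MulEquiv.injective _) (fun s => by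
        have h2 : resAut h σ hσ s ∈ ((a • P : Sylow p A) : Subgroup A) := ha ▸ ⟨s, s.2, rfl⟩
        obtain ⟨x, hx, e⟩ := h2
        refine ⟨⟨x, hx⟩, ?_⟩
        have h3 : (a : T) * x * (a : T)⁻¹ = σ (inc P s) := congrArg Subtype.val e
        show (x : T) = (a : T)⁻¹ * σ (inc P s) * (a : T)⁻¹⁻¹
        rw [← h3]
        group) hw
    obtain ⟨z, hz, e'⟩ := hN.conj_mem _ ⟨v, hv, rfl⟩ a
    refine ⟨z, hz, ?_⟩
    have h3 : inc P z = a * inc P v * (a : T)⁻¹ := congrArg Subtype.val e'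
    have h4 : inc P v = (a : T)⁻¹ * σ (inc P w) * (a : T)⁻¹⁻¹ := e
    rw [h3, h4]
    group
  have h2 : W.map (inc P) ≤ A := by
    rintro _ ⟨w, -, rfl⟩
    exact w.1.2
  refine fun t ht => (mi_norm h h1 (fun e => h0 ((map_eq_bot_iff_of_injective _ (inc_inj P)).1 e))
    fun e => h.ne_top (top_le_iff.1 (e ▸ h2))).le (mem_normalizer_fintype ?_)
  rintro _ ⟨w, hw, rfl⟩
  exact char_map (inc P) (inc_inj P) W (MulAut.conj t : T →* T) (MulEquiv.injective _)
    (fun s => (mem_normalizer_iff.1 ht _).1 ⟨s, rfl⟩) hw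

theorem norm_of_normal (h : MI A Γ) (P : Sylow p A) (h0 : p ∣ Nat.card A) [hN : (P : Subgroup A).Normal] :
    normalizer ((inc P).range : Set T) ≤ A := by
  have : Nontrivial P := (P : Subgroup A).nontrivial_iff_ne_bot.2 (P.ne_bot_of_dvd_card h0)
  refine norm_char h P ⊤ top_ne_bot ?_
  rwa [← MonoidHom.range_eq_map, range_subtype]

/-- **Thompson** -/
theorem not_pgroup (hn : ¬ IsMulCommutative T) (h : MI A Γ) (h2 : p ≠ 2) : ¬ IsPGroup p A := fun hA => by
  have : Nontrivial A := A.nontrivial_iff_ne_bot.2 h.ne_bot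
  obtain ⟨P⟩ : Nonempty (Sylow p A) := inferInstance
  have h1 : (P : Subgroup A) = ⊤ := (P.is_maximal' (hA.to_subgroup ⊤) le_top).symm
  have : (P : Subgroup A).Normal := h1 ▸ inferInstance
  have h3 := not_dvd_of_norm P (norm_of_normal h P (hA.card_eq_or_dvd.resolve_left Finite.one_lt_card.ne'))
  obtain ⟨K, hK, h4, h5⟩ := S3073.result p h2 A hA
  have h6 : K ≠ ⊥ := fun e => by
    rw [e, coe_bot, centralizer_eq_top_iff_subset.2 (by simp only [_root_.Set.singleton_subset_iff, _root_.SetLike.mem_coe, _root_.OneMemClass.one_mem])] at h4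
    exact top_ne_bot (le_bot_iff.1 h4)
  have h7 := mi_norm h (mi_char h K) (fun e => h6 ((map_eq_bot_iff_of_injective _ A.subtype_injective).1 e))
    fun e => h.ne_top (top_le_iff.1 (e ▸ map_subtype_le K))
  obtain ⟨S, N, hN, hc⟩ := (h5 T (hA.toSylow h3) (MulEquiv.refl A)).2 fun g hg hg' => by
    have h8 : g ∈ A := h7.le hg
    obtain rfl : g = 1 := by_contra fun e => hp.1.coprime_iff_not_dvd.1 hg'.symm (dvd_ord hp.1 hA h8 e)
    exact one_mem _
  rcases hN.eq_bot_or_eq_top with rfl | rfl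
  · exact SB.Red.not_pgroup inferInstance hn ((isComplement'_bot_left.1 hc ▸ S.isPGroup' :
      IsPGroup p (⊤ : Subgroup T)).of_equiv topEquiv)
  · exact S.ne_bot_of_dvd_card ((hA.card_eq_or_dvd.resolve_left Finite.one_lt_card.ne').trans
      (card_subgroup_dvd_card A)) (isComplement'_top_left.1 hc)

theorem cent_le {G : Type*} [Group G] [Finite G] (hE : Ep G) (h0 : pCore p G ≠ ⊥) :
    centralizer (pCore p G : Set G) ≤ pCore p G :=
  have := Lib.Cores.pCore_characteristic (G := G) p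
  Lib.Cores.le_pCore inferInstance (hE.cent_loc (Lib.Cores.pCore_isPGroup p) h0)

/-- **Stellmacher** -/
theorem two_free (h : MI A Γ) (hE : Ep A) (h0 : pCore 2 A ≠ ⊥) (h2 : 2 ∣ Nat.card A) (h3 : ¬ 3 ∣ Nat.card A) :
    ¬ 2 ∣ A.index := by
  obtain ⟨P⟩ : Nonempty (Sylow 2 A) := inferInstance
  have : Nontrivial P := (P : Subgroup A).nontrivial_iff_ne_bot.2 (P.ne_bot_of_dvd_card h2)
  obtain ⟨W, h4, h5, h6⟩ := S0665.result P.isPGroup'
  refine not_dvd_of_norm P (norm_char h P W h4 (h6 A _ (P : Subgroup A).subtype_injective ⟨P, (range_subtype _).symm⟩ ?_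
    (cent_le hE h0)))
  rintro ⟨K, R, hR, ⟨e⟩⟩
  have h7 := (card_quotient_dvd_card (R.subgroupOf K)).trans (card_subgroup_dvd_card K)
  rw [Nat.card_congr e.toEquiv, Nat.card_perm, Nat.card_fin] at h7
  exact h3 (Nat.dvd_trans (by decide) h7)

theorem conj_inj (hn : ¬ IsMulCommutative T) : Function.Injective (MulAut.conj : T →* MulAut T) := by
  rw [← MonoidHom.ker_eq_bot_iff]
  refine (MonoidHom.normal_ker _).eq_bot_or_eq_top.resolve_right fun e => hn ⟨⟨fun a b => ?_⟩⟩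
  exact mul_inv_eq_iff_eq_mul.1 (MulEquiv.congr_fun (MonoidHom.mem_ker.1 (e.ge (mem_top a))) b)

/-- **Sims** for `A` -/
theorem sims_mi (hn : ¬ IsMulCommutative T) (ho : (Inn T).index ≤ 2) (h : MI A Γ) {a : ℕ}
    (hA : Nat.card A = 2 ^ a * 3) (h2 : 2 ∣ A.index) : a ≤ 4 := by
  have hI : (Inn T).Normal := ⟨by
    rintro _ ⟨t, rfl⟩ σ
    exact ⟨σ t, by ext x; simp only [_root_.MulAut.conj_apply, _root_.MulAut.mul_apply, _root_.MulAut.inv_apply, _root_.map_mul, _root_.MulEquiv.apply_symm_apply, _root_.map_inv]⟩⟩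
  have hcov := mi_covBy h
  have c1 : Nat.card ((Inn T).subgroupOf Γ) = Nat.card A := by
    symm
    refine Nat.card_congr (Equiv.ofBijective (fun x => ⟨⟨MulAut.conj x.1, (h.conj _).2 x.2⟩, x.1, rfl⟩) ⟨fun x y e =>
      Subtype.ext (conj_inj hn (congrArg (fun z => z.1.1) e)), ?_⟩)
    rintro ⟨⟨σ, hσ⟩, t, rfl : MulAut.conj t = σ⟩
    exact ⟨⟨t, (h.conj t).1 hσ⟩, rfl⟩
  have c2 := ((Inn T).subgroupOf Γ).card_mul_index
  have c3 := ((Inn T).subgroupOf (Inn T ⊔ Γ)).card_mul_index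
  have c4 : ((Inn T).subgroupOf (Inn T ⊔ Γ)).index = ((Inn T).subgroupOf Γ).index := relIndex_sup_left Γ (Inn T)
  have c5 := (Γ.subgroupOf (Inn T ⊔ Γ)).card_mul_index
  have c6 : Nat.card (Γ.subgroupOf (Inn T ⊔ Γ)) = Nat.card Γ := Nat.card_congr (subgroupOfEquivOfLe le_sup_right).toEquiv
  have c7 : ((Inn T).subgroupOf Γ).index ≤ 2 :=
    (relIndex_le_of_le_right le_top index_ne_zero_of_finite).trans ((relIndex_top_right _).le.trans ho)
  have c8 : ((Inn T).subgroupOf Γ).index ≠ 0 := index_ne_zero_of_finite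
  rw [Nat.card_congr (subgroupOfEquivOfLe le_sup_left).toEquiv,
    ← Nat.card_congr (MonoidHom.ofInjective (conj_inj hn)).toEquiv, c4, ← A.card_mul_index] at c3
  rw [c1] at c2
  have c9 : (Γ.subgroupOf (Inn T ⊔ Γ)).index = A.index := by
    rw [c6, ← c2, ← c3, mul_right_comm _ A.index] at c5
    exact Nat.eq_of_mul_eq_mul_left (Nat.mul_pos Nat.card_pos (Nat.pos_of_ne_zero c8)) c5
  have hc : IsCoatom (Γ.subgroupOf (Inn T ⊔ Γ)) := by
    refine ⟨fun e => hcov.1.not_ge (subgroupOf_eq_top.1 e), fun K hK => ?_⟩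
    have k1 : Γ < K.map (Inn T ⊔ Γ).subtype := by
      conv_lhs => rw [← map_subgroupOf_eq_of_le (le_sup_right : Γ ≤ Inn T ⊔ Γ)]
      exact (map_lt_map_iff_of_injective (subtype_injective _)).2 hK
    have k2 := (map_subtype_le K).eq_or_lt.resolve_right (hcov.2 k1)
    exact map_injective (subtype_injective _) (by rw [k2, ← MonoidHom.range_eq_map, range_subtype])
  have h0 : (Γ.subgroupOf (Inn T ⊔ Γ)).normalCore = ⊥ := by
    let ι : T →* ↥(Inn T ⊔ Γ) := (MulAut.conj : T →* MulAut T).codRestrict _ fun t => mem_sup_left ⟨t, rfl⟩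
    have k1 : (Γ.subgroupOf (Inn T ⊔ Γ)).normalCore.comap ι = ⊥ :=
      (Normal.comap inferInstance ι).eq_bot_or_eq_top.resolve_right fun e => h.ne_top (eq_top_iff.2 fun t _ =>
        (h.conj t).1 (normalCore_le _ (e.ge (mem_top t)) :))
    refine eq_bot_iff.2 fun σ hσ => Subtype.ext (MulEquiv.ext fun t => ?_)
    have k2 : t * (σ.1 t)⁻¹ ∈ (Γ.subgroupOf (Inn T ⊔ Γ)).normalCore.comap ι := by
      have k3 : ι (t * (σ.1 t)⁻¹) = ι t * σ * (ι t)⁻¹ * σ⁻¹ := Subtype.ext (MulEquiv.ext fun x => by simp only [ι, mul_assoc, _root_.MonoidHom.codRestrict_apply, _root_.map_mul, _root_.map_inv, _root_.MulAut.mul_apply, _root_.MulAut.inv_apply, _root_.MulAut.conj_symm_apply, _root_.mul_assoc, _root_.MulAut.conj_apply, _root_.Subgroup.coe_mul, _root_.InvMemClass.coe_inv, _root_.MulEquiv.apply_symm_apply])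
      rw [mem_comap, k3]
      exact mul_mem (Normal.conj_mem inferInstance σ hσ _) (inv_mem hσ)
    rw [k1, mem_bot, mul_inv_eq_one] at k2
    exact k2.symm
  rw [← c6, hA] at c2
  obtain e | e : ((Inn T).subgroupOf Γ).index = 1 ∨ ((Inn T).subgroupOf Γ).index = 2 := by omega
  · exact sims hc h0 (by rw [← c2, e, mul_one]) (c9 ▸ h2)
  · exact (Nat.le_succ a).trans (sims hc h0 (by rw [← c2, e, pow_succ, mul_right_comm]) (c9 ▸ h2))

/-- **fusion in a normal abelian Sylow subgroup** -/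
theorem card_fus (h : MI A Γ) (P : Sylow p A) [(P : Subgroup A).Normal] (hP : IsMulCommutative P) {a : A}
    (ha : orderOf a = p) (X : A → Prop) (hX : ∀ b, X b → orderOf b = p ∧ ∃ k : ℕ, IsConj ((a : T) ^ k) b) :
    Nat.card {b // X b} ≤ (p - 1) * (P : Subgroup A).index := by
  have h0 : p ∣ Nat.card A := ha ▸ orderOf_dvd_natCard a
  have hN := norm_of_normal h P h0
  have h1 : ¬ p ∣ (inc P).range.index := by
    have h2 : (inc P).range = (P : Subgroup A).map A.subtype := by rw [inc, MonoidHom.range_comp, range_subtype]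
    rw [h2, index_map_subtype]
    exact fun k => (hp.1.dvd_mul.1 k).elim P.not_dvd_index (not_dvd_of_norm P hN)
  have : IsMulCommutative ((pg_inc P).toSylow h1) := ⟨⟨by
    rintro ⟨_, x, rfl⟩ ⟨_, y, rfl⟩
    exact Subtype.ext (by
      show inc P x * inc P y = inc P y * inc P x
      rw [← map_mul, hP.is_comm.comm, map_mul])⟩⟩
  have := Sylow.unique_of_normal P inferInstance
  have h2 : ∀ b : A, orderOf b = p → b ∈ (P : Subgroup A) := fun b hb => by
    obtain ⟨Q, hQ⟩ := (IsPGroup.of_card (G := zpowers b) (n := 1) (by rw [Nat.card_zpowers, hb, pow_one])).exists_le_sylow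
    exact Subsingleton.elim Q P ▸ hQ (mem_zpowers b)
  have h3 : ∀ b : {b // X b}, ∃ z : Fin (p - 1) × (A ⧸ (P : Subgroup A)), z.2.out * a ^ (z.1.1 + 1) * z.2.out⁻¹ = b := by
    rintro ⟨b, hb⟩
    obtain ⟨h4, k, hk⟩ := hX b hb
    obtain ⟨c, hc⟩ := isConj_iff.1 hk
    obtain ⟨n, hn, e⟩ := ((pg_inc P).toSylow h1).conj_eq_normalizer_conj_of_mem ((a : T) ^ k) c⁻¹
      (mem_inc.2 ⟨pow_mem a.2 k, pow_mem (h2 a ha) k⟩) (by rw [inv_inv, hc]; exact mem_inc.2 ⟨b.2, h2 b h4⟩)
    rw [inv_inv, hc] at e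
    have h5 : b = (⟨n, hN hn⟩ : A)⁻¹ * a ^ k * ⟨n, hN hn⟩ := Subtype.ext e
    have h6 : k % p ≠ 0 := fun h6 => hp.1.one_lt.ne' (by
      rw [← h4, h5, ← pow_mod_orderOf, ha, h6]
      simp)
    have h7 := Nat.mod_lt k hp.1.pos
    obtain ⟨s, hs⟩ := QuotientGroup.mk_out_eq_mul (P : Subgroup A) (⟨n, hN hn⟩ : A)⁻¹
    refine ⟨(⟨k % p - 1, by omega⟩, ((⟨n, hN hn⟩ : A)⁻¹ : A)), ?_⟩
    have h8 : (s : A) * a ^ k = a ^ k * s := congrArg Subtype.val (hP.is_comm.comm s ⟨_, pow_mem (h2 a ha) k⟩)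
    have h9 : a ^ (k % p) = a ^ k := by rw [← ha, pow_mod_orderOf]
    show _ * a ^ (k % p - 1 + 1) * _ = b
    rw [hs, Nat.sub_add_cancel (Nat.pos_of_ne_zero h6), h9, h5, mul_assoc _ (s : A), h8]
    group
  choose f hf using h3
  refine (Nat.card_le_card_of_injective f fun x y e => Subtype.ext (by rw [← hf, e, hf])).trans ?_
  rw [Nat.card_prod, Nat.card_fin, index]

/-- a self-centralising subgroup of order four -/
theorem four (h : MI A Γ) (hE : Ep A) (h4 : Nat.card (pCore 2 A) = 4) {F u : ℕ} (hT : Nat.card T = 2 ^ F * u)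
    (hu : ¬ 2 ∣ u) (hF : 3 ≤ F) : ∃ g : T, orderOf g * 2 = 2 ^ F := by
  have := Lib.Cores.pCore_characteristic (G := A) 2
  have h0 : pCore 2 A ≠ ⊥ := fun e => by rw [e, card_bot] at h4; omega
  have hQ := (Lib.Cores.pCore_isPGroup (G := A) 2).map A.subtype
  have h1 := mi_norm h (mi_char h (pCore 2 A))
    (fun e => h0 ((map_eq_bot_iff_of_injective _ A.subtype_injective).1 e))
    fun e => h.ne_top (top_le_iff.1 (e ▸ map_subtype_le _))
  obtain ⟨S, hS⟩ := hQ.exists_le_sylow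
  have h2 : Nat.card (((pCore 2 A).map A.subtype).subgroupOf S) = 2 ^ 2 := by
    rw [Nat.card_congr (subgroupOfEquivOfLe hS).toEquiv, card_map_of_injective A.subtype_injective, h4]
    rfl
  have h3 := S0112.result F (card_syl S hT hu) _ h2 (le_antisymm (fun x hx => by
    have h5 : (x : T) ∈ centralizer ((pCore 2 A).map A.subtype : Set T) := mem_centralizer_iff.2 fun y hy =>
      congrArg Subtype.val (mem_centralizer_iff.1 hx ⟨y, hS hy⟩ hy)
    exact ⟨⟨x, h1.le (centralizer_le_normalizer _ h5)⟩, cent_le hE h0 (mem_centralizer_iff.2 fun y hy =>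
      Subtype.ext (mem_centralizer_iff.1 h5 y ⟨y, hy, rfl⟩)), rfl⟩) fun x hx => mem_centralizer_iff.2 fun y hy =>
    congrArg Subtype.val ((IsPGroup.commGroupOfCardEqPrimeSq h2).mul_comm ⟨y, hy⟩ ⟨x, hx⟩))
  obtain ⟨C, hC, h5⟩ := S0113.result F hF (card_syl S hT hu) h3
  obtain ⟨g, hg⟩ := hC.exists_ofOrder_eq_natCard
  exact ⟨g, by rw [orderOf_coe, orderOf_coe, hg, ← card_syl S hT hu, ← C.card_mul_index, h5]⟩

end Cfsg.Agent.N2.Sp2
end

private theorem dce_b648f7cd8f2d : _root_.True := by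
  try have : _root_.True := by simp only [_root_.Cfsg.Agent.N2.Sp2.np.eq_1]
  try have : _root_.True := by simp only [_root_.Cfsg.Agent.N2.Sp2.inc.eq_1]
  exact _root_.True.intro
end

-- part: N2/Sp4T/Mx
section
set_option linter.all false
open scoped Cfsg.Agent.FastGrp

/-!
# S3519, sporadic rows: local lemmas (helper82)

* `Mx A` : `A` contains the normaliser of every proper non-trivial subgroup which it normalises; `mx_of_mi`.
* `solv_cent` : the centraliser of `O_p(A)`; `core_three` : mixed Fitting subgroup; `card_le_mixed`.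
-/

set_option autoImplicit false
set_option linter.unusedSectionVars false

namespace Cfsg.Agent.N2.Sp4T

open Subgroup Cfsg Cfsg.Agent.FP3 Cfsg.Agent.SB Cfsg.Agent.SB.Mon Cfsg.Agent.SB.SporB

variable {G : Type*} [Group G]

/-- `A` contains the normaliser of every proper non-trivial subgroup which it normalises -/
def Mx (A : Subgroup G) : Prop := ∀ U : Subgroup G, U ≠ ⊥ → U ≠ ⊤ → (∀ s ∈ A, ∀ u ∈ U, s * u * s⁻¹ ∈ U) →
  ∀ g, (∀ u ∈ U, g * u * g⁻¹ ∈ U) → g ∈ A

theorem mx_of_mi [Finite G] [IsSimpleGroup G] (ho : Nat.card (Out G) = 1) {A : Subgroup G} {Γ : Subgroup (MulAut G)}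
    (h : MI A Γ) : Mx A := by
  intro U h0 h1 hn g hg
  have h2 : Cfsg.Inn G = ⊤ := index_eq_one.1 ho
  have h3 : Inv Γ U := fun σ hσ x hx => by
    obtain ⟨a, rfl⟩ : σ ∈ Cfsg.Inn G := h2 ▸ mem_top σ
    exact hn a ((h.conj a).1 hσ) x hx
  rw [← mi_norm h h3 h0 h1]
  exact norm_of (H := zpowers g) (X := U) (fun x hx => by
    obtain ⟨k, rfl⟩ := (mem_powers_iff_mem_zpowers.2 hx :)
    induction k with
    | zero => intro u hu; simpa using hu
    | succ k ih =>
      intro u hu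
      have := ih (mem_powers_iff_mem_zpowers.1 ⟨k, rfl⟩) _ (hg u hu)
      simpa [pow_succ, mul_assoc] using this) (mem_zpowers g)

theorem out_congr {H : Type*} [Group H] (e : G ≃* H) (ho : Nat.card (Out H) = 1) : Nat.card (Out G) = 1 := by
  have h2 : Cfsg.Inn H = ⊤ := index_eq_one.1 ho
  refine index_eq_one.2 (eq_top_iff.2 fun σ _ => ?_)
  obtain ⟨a, ha⟩ : MulAut.congr e σ ∈ Cfsg.Inn H := h2 ▸ mem_top _
  refine ⟨e.symm a, MulEquiv.ext fun x => e.injective ?_⟩
  have := congrArg (fun τ : MulAut H => τ (e x)) ha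
  simpa using this

theorem Mx.map {H : Type*} [Group H] {A : Subgroup G} (h : Mx A) (e : G ≃* H) : Mx (A.map e.toMonoidHom) := by
  intro U h0 h1 hn g hg
  refine ⟨e.symm g, h (U.comap e.toMonoidHom) (fun k => h0 ?_) (fun k => h1 ?_) (fun s hs u hu => ?_) _ fun u hu => ?_,
    by simp⟩
  · rw [← map_comap_eq_self_of_surjective (f := e.toMonoidHom) e.surjective U, k, Subgroup.map_bot]
  · rw [← map_comap_eq_self_of_surjective (f := e.toMonoidHom) e.surjective U, k,
      map_top_of_surjective _ e.surjective]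
  · simpa [mem_comap] using hn _ ⟨s, hs, rfl⟩ _ hu
  · simpa [mem_comap] using hg _ hu

theorem Mx.cent {A U : Subgroup G} (h : Mx A) (h0 : U ≠ ⊥) (h1 : U ≠ ⊤) (hn : ∀ s ∈ A, ∀ u ∈ U, s * u * s⁻¹ ∈ U) {g : G}
    (hg : ∀ u ∈ U, g * u = u * g) : g ∈ A :=
  h U h0 h1 hn g fun u hu => by rw [hg u hu, mul_inv_cancel_right]; exact hu

variable [Finite G]

theorem ne_top_of_pgroup {p q : ℕ} (hp : p.Prime) (hq : q.Prime) (hne : q ≠ p) (hd : q ∣ Nat.card G) {U : Subgroup G}
    (hU : IsPGroup p U) : U ≠ ⊤ := by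
  rintro rfl
  have := Fact.mk hp
  obtain ⟨n, hn⟩ := IsPGroup.iff_card.1 hU
  rw [card_top] at hn
  exact hne ((Nat.prime_dvd_prime_iff_eq hq hp).1 (hq.dvd_of_dvd_pow (hn ▸ hd)))

theorem exists_ord {p : ℕ} (hp : p.Prime) {U : Subgroup G} (hU : IsPGroup p U) (h0 : U ≠ ⊥) : ∃ e ∈ U, orderOf e = p := by
  have := Fact.mk hp
  obtain ⟨n, hn⟩ := IsPGroup.iff_card.1 hU
  obtain ⟨e, he⟩ := exists_prime_orderOf_dvd_card' (G := U) p (by
    rw [hn]
    refine dvd_pow_self p fun h => h0 (card_eq_one.1 ?_)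
    rw [hn, h, pow_zero])
  exact ⟨e, e.2, by rw [orderOf_coe, he]⟩

/-- a `{2,3}`-group is solvable -/
theorem solv_of_primes {C : Subgroup G} (h : ∀ r : ℕ, r.Prime → r ∣ Nat.card C → r = 2 ∨ r = 3) : Group.IsSolvable C := by
  have h0 : Nat.card C ≠ 0 := Nat.card_pos.ne'
  obtain ⟨i, m, hm, hn⟩ := Nat.exists_eq_two_pow_mul_odd h0
  have hm0 : m ≠ 0 := by rintro rfl; simp at hm
  have h3 : m = 3 ^ m.primeFactorsList.length := by
    refine Nat.eq_prime_pow_of_unique_prime_dvd hm0 fun {q} hq hd => ?_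
    rcases h q hq (hn ▸ hd.mul_left _) with rfl | h1
    · exact absurd hm (Nat.not_odd_iff_even.2 (even_iff_two_dvd.2 hd))
    · exact h1
  exact S0144.result 2 3 i _ Nat.prime_two Nat.prime_three (hn.trans (by rw [← h3]))

/-- the primes of a subgroup of `A` which centralises an element of prime order `p` -/
theorem primes_cent {A C : Subgroup G} (hC : C ≤ A) {p : ℕ} (hp : p.Prime) {e : G} (he : e ∈ A) (ho : orderOf e = p)
    (hc : ∀ c ∈ C, c * e = e * c) {r : ℕ} (hr : r.Prime) (hd : r ∣ Nat.card C) : r = p ∨ ∃ a ∈ A, orderOf a = p * r := by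
  have := Fact.mk hr
  obtain ⟨x, hx⟩ := exists_prime_orderOf_dvd_card' (G := C) r hd
  by_cases h : r = p
  · exact Or.inl h
  refine Or.inr ⟨e * x, mul_mem he (hC x.2), ?_⟩
  have h1 : orderOf (x : G) = r := by rw [orderOf_coe, hx]
  rw [Commute.orderOf_mul_eq_mul_orderOf_of_coprime (hc x x.2).symm, ho, h1]
  rw [ho, h1]
  exact (Nat.coprime_primes hp hr).2 (Ne.symm h)

theorem cent_norm {A U : Subgroup G} (hn : ∀ s ∈ A, ∀ u ∈ U, s * u * s⁻¹ ∈ U) :
    A ≤ normalizer (centralizer (U : Set G) : Set G) := (norm_of hn).trans norm_cent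

/-- **the mixed case**: the centraliser of `O_p(A)` is a `{2,3}`-subgroup of `A` not inside `O_p(A)` -/
theorem core_other {A : Subgroup G} {p q : ℕ} (hpq : (p = 2 ∧ q = 3) ∨ (p = 3 ∧ q = 2))
    (hC : centralizer (core p A : Set G) ≤ A)
    (h23 : ∀ r : ℕ, r.Prime → r ∣ Nat.card (centralizer (core p A : Set G)) → r = 2 ∨ r = 3) {z : G}
    (hz : ∀ u ∈ core p A, z * u = u * z) (hz' : z ∉ core p A) : core q A ≠ ⊥ := by
  intro h3
  set C := centralizer (core p A : Set G)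
  have hle : ∀ r, core r C ≤ core r A := fun r => H230.pCoreOf_le_pCoreOf hC (cent_norm (core_conj p))
  have h4 : ∀ f ∈ fit C, f ∈ core p A := by
    intro f hf
    obtain ⟨x, hx, a, ha, rfl⟩ := fit_split (S := C) (fun c hc hp => h23 _ hp (by
      obtain ⟨c, -, rfl⟩ := hc
      rw [coe_subtype, orderOf_coe]
      exact orderOf_dvd_natCard c)) hf
    rcases hpq with ⟨rfl, rfl⟩ | ⟨rfl, rfl⟩
    · have k := hle 3 ha
      rw [h3, mem_bot] at k
      rw [k, mul_one]; exact hle 2 hx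
    · have k := hle 2 hx
      rw [h3, mem_bot] at k
      rw [k, one_mul]; exact hle 3 ha
  exact hz' (h4 z (mem_fit_of_cent (solv_of_primes h23) (mem_cent.2 hz) fun f hf => hz f (h4 f hf)))

/-- the order of `A` from two normal subgroups -/
theorem card_le_mixed {A U Z : Subgroup G} (hU : ∀ s ∈ A, ∀ u ∈ U, s * u * s⁻¹ ∈ U) (hZ : ∀ s ∈ A, ∀ u ∈ Z, s * u * s⁻¹ ∈ Z)
    {e x : G} (he : e ∈ U) (hx : x ∈ Z) : Nat.card A ≤ Nat.card U * Nat.card Z * cn (e * x) := by
  have h1 := card_le_of_conj (S := A) (Z := U) (y := e) fun s hs => hU s hs e he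
  have h2 := card_le_of_conj (S := A ⊓ centralizer {e}) (Z := Z) (y := x) fun s hs => hZ s hs.1 x hx
  have h3 : Nat.card ↥(A ⊓ centralizer {e} ⊓ centralizer {x}) ≤ cn (e * x) := card_le_of_le fun g hg =>
    mem_centralizer_singleton_iff.2 (by
      rw [← mul_assoc, mem_centralizer_singleton_iff.1 hg.1.2, mul_assoc, mem_centralizer_singleton_iff.1 hg.2, mul_assoc])
  rw [mul_assoc]
  exact h1.trans (Nat.mul_le_mul_left _ (h2.trans (Nat.mul_le_mul_left _ h3)))

end Cfsg.Agent.N2.Sp4T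
end
end
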